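/-
Mirrors at anisotropic vectors of the odd factor, and three compatible lines give a product.
-/
import Cfsg.Agent.Lib.OrthTensorOdd.Lines

set_option autoImplicit false
set_option linter.unusedSectionVars false

namespace Cfsg.Agent.OrthTensorOdd

open scoped Matrix Kronecker
open Matrix Cfsg.Agent.Transvec Cfsg.Agent.TensorMax
open Cfsg.Agent.TensorMax.U (kr mv_kr_ten isKron_kr isKron_mul isKron_inv mv_kron_ten ext_ten_mv)
open Cfsg.Agent.Transvec.Orth (pol IsSiegel)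
open Cfsg.Agent.OrthTensorMirror

variable {α β : Type} [Fintype α] [DecidableEq α] [Fintype β] [DecidableEq β] {F : Type*} [Field F]
variable {Q : (α × β → F) → F} {q₁ : (α → F) → F} {q₂ : (β → F) → F}
variable {M : Subgroup (GL (α × β) F)}

/-- The element fixing the line at z and negating its orthogonal. -/
def IsMir (q₂ : (β → F) → F) (m : GL (α × β) F) (z : β → F) : Prop :=
  q₂ z ≠ 0 ∧ ∀ x, mv m x = ten ((q₂ z)⁻¹ • pc q₂ z x) z - x

/-- g sends the line at z onto the line at z'. -/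
def Maps (g : GL (α × β) F) (z z' : β → F) : Prop := (line α z).map (mvLin g) = line α z'

/-- The hypotheses on an overgroup, with an even first and an odd second factor of similar dimensions. -/
structure Hyp (Q : (α × β → F) → F) (q₁ : (α → F) → F) (q₂ : (β → F) → F)
    (M : Subgroup (GL (α × β) F)) : Prop extends Ctx Q q₁ q₂ M where
  hb5 : 5 ≤ Fintype.card β
  oddβ : Odd (Fintype.card β)
  evenα : Even (Fintype.card α)
  hle : Fintype.card α ≤ Fintype.card β + 1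
  centre : CentreTriv q₂ M
  middle : MiddleShear q₂ M
  mir : ∀ z, q₂ z ≠ 0 → ∃ m ∈ M, IsMir q₂ m z

theorem Hyp.nonempty (H : Hyp Q q₁ q₂ M) : Nonempty α :=
  Fintype.card_pos_iff.1 (by have := H.hα; omega)

theorem Hyp.ne_zero (H : Hyp Q q₁ q₂ M) {z : β → F} (hz : q₂ z ≠ 0) : z ≠ 0 :=
  fun h => hz (by rw [h, Orth.q_zero H.h₂])

theorem Hyp.exists_dual (H : Hyp Q q₁ q₂ M) {u : α → F} (hu : u ≠ 0) : ∃ v, pol q₁ u v = 1 := by
  obtain ⟨v, hv⟩ : ∃ v, pol q₁ u v ≠ 0 := by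
    by_contra hcon
    push Not at hcon
    exact hu (eq_zero_of_orth H.h₁ hcon)
  exact ⟨(pol q₁ u v)⁻¹ • v, by rw [Orth.pol_smul_right H.h₁, inv_mul_cancel₀ hv]⟩

theorem Maps.mem {g : GL (α × β) F} {z z' : β → F} (h : Maps g z z') (u : α → F) :
    ∃ u', mv g (ten u z) = ten u' z' := by
  obtain ⟨v, hv⟩ := mem_line.1 (show mv g (ten u z) ∈ line α z' by
    rw [← (h : _ = line α z')]; exact mem_map_mv.2 ⟨_, ten_mem_line _ _, rfl⟩)
  exact ⟨v, hv.symm⟩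

theorem Maps.surj {g : GL (α × β) F} {z z' : β → F} (h : Maps g z z') (u' : α → F) :
    ∃ u, mv g (ten u z) = ten u' z' := by
  obtain ⟨x, hx, hxe⟩ := mem_map_mv.1 (show ten u' z' ∈ (line α z).map (mvLin g) by
    rw [(h : _ = line α z')]; exact ten_mem_line _ _)
  obtain ⟨u, rfl⟩ := mem_line.1 hx
  exact ⟨u, hxe⟩

theorem maps_of_forall {g : GL (α × β) F} {z z' : β → F} (hz : z ≠ 0) (hz' : z' ≠ 0)
    (h : ∀ u, mv g (ten u z) ∈ line α z') : Maps g z z' := by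
  refine Submodule.eq_of_le_of_finrank_le (fun x hx => ?_)
    (by rw [finrank_map_mv, finrank_line hz, finrank_line hz'])
  obtain ⟨y, hy, rfl⟩ := mem_map_mv.1 hx
  obtain ⟨u, rfl⟩ := mem_line.1 hy
  exact h u

theorem Maps.inv {g : GL (α × β) F} {z z' : β → F} (h : Maps g z z') : Maps g⁻¹ z' z := by
  refine le_antisymm (fun x hx => ?_) fun x hx => ?_
  · obtain ⟨y, hy, rfl⟩ := mem_map_mv.1 hx
    obtain ⟨u, rfl⟩ := mem_line.1 hy
    obtain ⟨t, ht⟩ := h.surj u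
    rw [← ht, mv_inv_mv]
    exact ten_mem_line _ _
  · obtain ⟨u, rfl⟩ := mem_line.1 hx
    obtain ⟨t, ht⟩ := h.mem u
    exact mem_map_mv.2 ⟨_, ten_mem_line t z', by rw [← ht, mv_inv_mv]⟩

theorem Maps.comp {g k : GL (α × β) F} {a b c : β → F} (h : Maps g b c) (h' : Maps k a b) :
    Maps (g * k) a c := by
  refine le_antisymm (fun x hx => ?_) fun x hx => ?_
  · obtain ⟨y, hy, rfl⟩ := mem_map_mv.1 hx
    obtain ⟨u, rfl⟩ := mem_line.1 hy
    obtain ⟨t, ht⟩ := h'.mem u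
    obtain ⟨r, hr⟩ := h.mem t
    rw [mv_mul, ht, hr]
    exact ten_mem_line _ _
  · obtain ⟨u, rfl⟩ := mem_line.1 hx
    obtain ⟨t, ht⟩ := h.surj u
    obtain ⟨r, hr⟩ := h'.surj t
    exact mem_map_mv.2 ⟨_, ten_mem_line r a, by rw [mv_mul, hr, ht]⟩

theorem Maps.pol (H : Hyp Q q₁ q₂ M) {g : GL (α × β) F} (hg : g ∈ M) {z z' w w' : β → F}
    (hz : Maps g z z') (hw : Maps g w w') (h : pol q₂ z w = 0) : pol q₂ z' w' = 0 := by
  obtain ⟨i₀⟩ := H.nonempty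
  obtain ⟨v, hv⟩ := H.exists_dual (u := Pi.single i₀ 1) (by simp)
  obtain ⟨s, hs⟩ := hz.surj (Pi.single i₀ 1)
  obtain ⟨t, ht⟩ := hw.surj v
  have e := H.iso hg (ten s z) (ten t w)
  rw [hs, ht, H.hpol, H.hpol, h, hv, mul_zero, one_mul] at e
  exact e

theorem Maps.q (H : Hyp Q q₁ q₂ M) {g : GL (α × β) F} (hg : g ∈ M) {z z' : β → F}
    (hz : Maps g z z') (h : q₂ z ≠ 0) : q₂ z' ≠ 0 := by
  intro h0
  obtain ⟨i₀⟩ := H.nonempty
  obtain ⟨v, hv⟩ := H.exists_dual (u := Pi.single i₀ 1) (by simp)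
  obtain ⟨a, ha⟩ := hz.mem (Pi.single i₀ 1)
  obtain ⟨b, hb⟩ := hz.mem v
  have e := H.iso hg (ten (Pi.single i₀ 1) z) (ten v z)
  rw [ha, hb, H.hpol, H.hpol, hv, Orth.pol_self H.h₂, Orth.pol_self H.h₂, h0, mul_zero, mul_zero, one_mul] at e
  exact mul_ne_zero H.two h e.symm

/-- The orthogonal of a line, carried along. -/
theorem Maps.perp (H : Hyp Q q₁ q₂ M) {g : GL (α × β) F} (hg : g ∈ M) {z z' : β → F}
    (hz : Maps g z z') {x : α × β → F} (hx : pc q₂ z x = 0) : pc q₂ z' (mv g x) = 0 := by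
  refine eq_zero_of_orth H.h₁ fun v => ?_
  obtain ⟨t, ht⟩ := hz.surj v
  rw [← H.pol_pc, ← ht, H.iso hg, H.pol_pc, hx, Orth.pol_zero_left H.h₁]

theorem mir_self (H : Hyp Q q₁ q₂ M) {m : GL (α × β) F} {z : β → F} (h : IsMir q₂ m z) (u : α → F) :
    mv m (ten u z) = ten u z := by
  rw [h.2, pc_ten H.toCtx, Orth.pol_self H.h₂]
  funext i
  simp [ten]
  have := h.1
  field_simp
  ring

theorem mir_perp {m : GL (α × β) F} {z : β → F} (h : IsMir q₂ m z) {x : α × β → F} (hx : pc q₂ z x = 0) :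
    mv m x = -x := by
  rw [h.2, hx, smul_zero, ten_zero_left, zero_sub]

theorem mir_fixed (H : Hyp Q q₁ q₂ M) {m : GL (α × β) F} {z : β → F} (h : IsMir q₂ m z) {x : α × β → F}
    (hx : mv m x = x) : x ∈ line α z := by
  have e : x = ten (((2 : F)⁻¹ * (q₂ z)⁻¹) • pc q₂ z x) z := by
    rw [h.2, sub_eq_iff_eq_add, ← two_smul F x] at hx
    rw [mul_smul, ten_smul_left, hx, smul_smul, inv_mul_cancel₀ H.two, one_smul]
  rw [e]
  exact ten_mem_line _ _

theorem mir_sq (H : Hyp Q q₁ q₂ M) {m : GL (α × β) F} {z : β → F} (h : IsMir q₂ m z) : m * m = 1 := by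
  refine ext_ten_mv fun u w => ?_
  rw [mv_mul, h.2 (ten u w), mv_sub, mir_self H h, h.2, mv_one]
  abel

theorem mir_inv (H : Hyp Q q₁ q₂ M) {m : GL (α × β) F} {z : β → F} (h : IsMir q₂ m z) : m⁻¹ = m :=
  inv_eq_of_mul_eq_one_right (mir_sq H h)

theorem mir_kron (H : Hyp Q q₁ q₂ M) {m : GL (α × β) F} {z : β → F} (h : IsMir q₂ m z) : IsKron m := by
  haveI := H.nonempty
  haveI : Nonempty β := Fintype.card_pos_iff.1 (by have := H.hb5; omega)
  refine isKron_of_ten 1 (LinearMap.toMatrix'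
    (LinearMap.smulRight ((q₂ z)⁻¹ • Orth.formQ H.h₂ z) z - LinearMap.id)) fun u w => ?_
  rw [h.2, pc_ten H.toCtx, Matrix.one_mulVec, LinearMap.toMatrix'_mulVec]
  funext i
  simp [ten, Orth.formQ_apply]
  ring

theorem mir_maps_self (H : Hyp Q q₁ q₂ M) {m : GL (α × β) F} {z : β → F} (h : IsMir q₂ m z) : Maps m z z :=
  maps_of_forall (H.ne_zero h.1) (H.ne_zero h.1) fun u => by rw [mir_self H h]; exact ten_mem_line _ _

theorem mir_maps_perp (H : Hyp Q q₁ q₂ M) {m : GL (α × β) F} {z v : β → F} (h : IsMir q₂ m z) (hv : v ≠ 0)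
    (hvz : pol q₂ v z = 0) : Maps m v v :=
  maps_of_forall hv hv fun u => by
    rw [mir_perp h (by rw [pc_ten H.toCtx, hvz, zero_smul])]
    exact Submodule.neg_mem _ (ten_mem_line _ _)

/-- Conjugating mirrors. -/
theorem conj_mir (H : Hyp Q q₁ q₂ M) {g m m' : GL (α × β) F} (hg : g ∈ M) {z z' : β → F}
    (hm : IsMir q₂ m z) (hm' : IsMir q₂ m' z') (hz : Maps g z z') : g * m * g⁻¹ = m' := by
  rw [mul_inv_eq_iff_eq_mul]
  refine ext_mv fun x => ?_
  rw [mv_mul, mv_mul, hm.2, hm'.2, mv_sub]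
  obtain ⟨u, hu⟩ : ∃ u, u = (q₂ z)⁻¹ • pc q₂ z x := ⟨_, rfl⟩
  rw [← hu]
  obtain ⟨u', hu'⟩ := hz.mem u
  have h0 := hz.perp H hg (x := x - (2 : F)⁻¹ • ten u z) (by
    rw [map_sub, map_smul, pc_ten H.toCtx, Orth.pol_self H.h₂, hu, smul_smul, smul_smul,
      show (2 : F)⁻¹ * (2 * q₂ z) * (q₂ z)⁻¹ = 1 by
        have := H.two; have := hm.1; field_simp, one_smul, sub_self])
  rw [mv_sub, mv_smul, hu', map_sub, map_smul, pc_ten H.toCtx, Orth.pol_self H.h₂, smul_smul,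
    inv_mul_cancel_left₀ H.two, sub_eq_zero] at h0
  rw [h0, smul_smul, inv_mul_cancel₀ hm'.1, one_smul, hu']

theorem maps_of_conj (H : Hyp Q q₁ q₂ M) {g m m' : GL (α × β) F} {z z' : β → F}
    (hm : IsMir q₂ m z) (hm' : IsMir q₂ m' z') (h : g * m * g⁻¹ = m') : Maps g z z' :=
  maps_of_forall (H.ne_zero hm.1) (H.ne_zero hm'.1) fun u => mir_fixed H hm' (by
    rw [← h, mv_mul, mv_mul, mv_inv_mv, mir_self H hm])

theorem commute_iff (H : Hyp Q q₁ q₂ M) {g m : GL (α × β) F} (hg : g ∈ M) {z : β → F} (hm : IsMir q₂ m z) :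
    g * m = m * g ↔ Maps g z z := by
  refine ⟨fun h => maps_of_conj H hm hm (by rw [h, mul_inv_cancel_right]), fun h => ?_⟩
  rw [← mul_inv_eq_iff_eq_mul, conj_mir H hg hm hm h]

theorem mir_unique {m m' : GL (α × β) F} {z : β → F} (h : IsMir q₂ m z) (h' : IsMir q₂ m' z) : m = m' :=
  ext_mv fun x => by rw [h.2, h'.2]

/-- Commuting mirrors are at equal or orthogonal points. -/
theorem mir_commute (H : Hyp Q q₁ q₂ M) {m m' : GL (α × β) F} (hm : m ∈ M) {a b : β → F}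
    (ha : IsMir q₂ m a) (hb : IsMir q₂ m' b) (hc : m * m' = m' * m) :
    pol q₂ b a = 0 ∨ a ∈ Submodule.span F {b} := by
  by_contra hcon
  push Not at hcon
  obtain ⟨hp, hn⟩ := hcon
  obtain ⟨i₀⟩ := H.nonempty
  obtain ⟨u', hu'⟩ := ((commute_iff H hm hb).1 hc).mem (Pi.single i₀ 1)
  obtain ⟨φ, hφ, hφ'⟩ := exists_dot hn
  have e := congrArg (ctr φ) hu'
  rw [ha.2, pc_ten H.toCtx, map_sub, ctr_ten, ctr_ten, ctr_ten, hφ', hφ b (Submodule.mem_span_singleton_self b),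
    zero_smul, zero_smul, sub_zero, one_smul, smul_smul] at e
  have := congrFun e i₀
  simp [hp, ha.1] at this

/-- The second components along two linked orthogonal lines are proportional. -/
theorem prop_of_two [Fintype F] (H : Hyp Q q₁ q₂ M) {y : GL (α × β) F} (hy : y ∈ M) {e₁ e₂ f₁ f₂ : β → F}
    (h₁ : q₂ e₁ ≠ 0) (h₂ : q₂ e₂ ≠ 0) (h12 : pol q₂ e₁ e₂ = 0) (hsum : q₂ e₁ + q₂ e₂ ≠ 0)
    (hm₁ : Maps y e₁ f₁) (hm₂ : Maps y e₂ f₂) {G₁ G₂ : (α → F) → α → F}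
    (hG₁ : ∀ u, mv y (ten u e₁) = ten (G₁ u) f₁) (hG₂ : ∀ u, mv y (ten u e₂) = ten (G₂ u) f₂) :
    ∃ s : F, ∀ u, G₂ u = s • G₁ u := by
  haveI := H.nonempty
  have hf₁ := hm₁.q H hy h₁
  have hf₂ := hm₂.q H hy h₂
  have hf12 : pol q₂ f₁ f₂ = 0 := hm₁.pol H hy hm₂ h12
  set v := e₁ + e₂ with hv
  have hqv : q₂ v = q₂ e₁ + q₂ e₂ := by rw [hv, Orth.q_add H.h₂, h12, add_zero]
  obtain ⟨m₁, hm₁M, hm₁e⟩ := H.mir e₁ h₁
  obtain ⟨m, hmM, hme⟩ := H.mir v (by rw [hqv]; exact hsum)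
  set T := m₁ * m with hT
  have hTM : T ∈ M := M.mul_mem hm₁M hmM
  set h := y * T * y⁻¹ with hh
  have hhM : h ∈ M := M.mul_mem (M.mul_mem hy hTM) (M.inv_mem hy)
  obtain ⟨c, hcP, hc0, hc⟩ := Orth.exists_singular H.h₂
    (X := Orth.orth H.h₂ (Submodule.span F ({f₁, f₂} : Set (β → F)))) (by
      have a := finrank_span_pair_le f₁ f₂
      have b := Orth.le_finrank_orth H.h₂ (Submodule.span F ({f₁, f₂} : Set (β → F)))
      have := H.hb5
      omega)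
  rw [Orth.mem_orth_span H.h₂] at hcP
  have hc₁ : pol q₂ f₁ c = 0 := hcP f₁ (Set.mem_insert _ _)
  have hc₂ : pol q₂ f₂ c = 0 := hcP f₂ (Set.mem_insert_of_mem _ rfl)
  have hfix : ∀ u, mv h (ten u c) = ten u c := by
    intro u
    have k1 : pc q₂ e₁ (mv y⁻¹ (ten u c)) = 0 :=
      hm₁.inv.perp H (M.inv_mem hy) (by rw [pc_ten H.toCtx, Orth.pol_comm, hc₁, zero_smul])
    have k2 : pc q₂ e₂ (mv y⁻¹ (ten u c)) = 0 :=
      hm₂.inv.perp H (M.inv_mem hy) (by rw [pc_ten H.toCtx, Orth.pol_comm, hc₂, zero_smul])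
    rw [hh, hT, mv_mul, mv_mul, mv_mul, mir_perp hme (by
        rw [hv, pc_add_vec H.toCtx, LinearMap.add_apply, k1, k2, add_zero]),
      mv_neg, mir_perp hm₁e k1, neg_neg, mv_mv_inv]
  obtain ⟨A, B, hAB⟩ := mv_kron_ten (kron_of_line H.toCtx H.hb5 H.centre H.middle hhM hc0 hc hc0 hc
    (maps_of_forall hc0 hc0 fun u => by rw [hfix]; exact ten_mem_line _ _))
  obtain ⟨θ, hθ⟩ := exists_dot_one hc0
  obtain ⟨k, hk⟩ : ∃ k, k = θ ⬝ᵥ mv B c := ⟨_, rfl⟩
  have hA : ∀ u, k • mv A u = u := fun u => by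
    have e := congrArg (ctr θ) ((hAB u c).symm.trans (hfix u))
    rwa [ctr_ten, ctr_ten, hθ, one_smul, ← hk] at e
  obtain ⟨κ, hκ⟩ : ∃ κ, κ = 2 * q₂ e₁ / q₂ v := ⟨_, rfl⟩
  have hκ0 : κ ≠ 0 := by rw [hκ, hqv]; exact div_ne_zero (mul_ne_zero H.two h₁) hsum
  have hTe : ∀ u, mv T (ten u e₁) = (κ - 1) • ten u e₁ - κ • ten u e₂ := by
    intro u
    have hev : pol q₂ e₁ v = 2 * q₂ e₁ := by rw [hv, Orth.pol_add_right H.h₂, h12, Orth.pol_self H.h₂, add_zero]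
    rw [hT, mv_mul, hme.2, pc_ten H.toCtx, hev, smul_smul, ← div_eq_inv_mul, ← hκ, hv, ten_add_right,
      mv_sub, mv_add, mir_self H hm₁e, mir_self H hm₁e,
      mir_perp hm₁e (by rw [pc_ten H.toCtx, Orth.pol_comm, h12, zero_smul])]
    funext i
    simp [ten]
    ring
  refine ⟨-(k⁻¹ * pol q₂ (mv B f₁) f₂ / (κ * (2 * q₂ f₂))), fun u => ?_⟩
  have e : mv h (ten (G₁ u) f₁) = (κ - 1) • ten (G₁ u) f₁ - κ • ten (G₂ u) f₂ := by
    rw [← hG₁, hh, mv_mul, mv_mul, mv_inv_mv, hTe, mv_sub, mv_smul, mv_smul, hG₁, hG₂]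
  rw [hAB] at e
  have e2 := congrArg (pc q₂ f₂) e
  rw [map_sub, map_smul, map_smul, pc_ten H.toCtx, pc_ten H.toCtx, pc_ten H.toCtx, hf12, zero_smul, smul_zero,
    zero_sub, Orth.pol_self H.h₂, smul_smul] at e2
  have hk0 : k ≠ 0 := fun h0 => by
    obtain ⟨i₀⟩ := H.nonempty
    have := congrFun (hA (Pi.single i₀ 1)) i₀
    simp [h0] at this
  have hA' : mv A (G₁ u) = k⁻¹ • G₁ u := by
    conv_rhs => rw [← hA (G₁ u), smul_smul, inv_mul_cancel₀ hk0, one_smul]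
  rw [hA', smul_smul] at e2
  have hne : κ * (2 * q₂ f₂) ≠ 0 := mul_ne_zero hκ0 (mul_ne_zero H.two hf₂)
  refine smul_right_injective _ hne ?_
  show (κ * (2 * q₂ f₂)) • G₂ u = (κ * (2 * q₂ f₂)) • _
  rw [smul_smul, mul_neg, mul_div_cancel₀ _ hne, neg_smul, mul_comm k⁻¹, e2, neg_neg]

/-- Three linked orthogonal lines sent to lines force a product. -/
theorem kron_of_three [Fintype F] (H : Hyp Q q₁ q₂ M) {y : GL (α × β) F} (hy : y ∈ M) {e f : Fin 3 → β → F}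
    (he : ∀ i, q₂ (e i) ≠ 0) (ho : ∀ i j, i ≠ j → pol q₂ (e i) (e j) = 0)
    (hl : ∀ i j, i ≠ j → q₂ (e i) + q₂ (e j) ≠ 0) (hm : ∀ i, Maps y (e i) (f i)) : IsKron y := by
  classical
  choose G hG using fun i u => (hm i).mem u
  have hp : ∀ i, ∃ s : F, ∀ u, G i u = s • G 0 u := fun i => by
    by_cases h : i = 0
    · subst h; exact ⟨1, fun u => (one_smul _ _).symm⟩
    · exact prop_of_two H hy (he 0) (he i) (ho 0 i (Ne.symm h)) (hl 0 i (Ne.symm h)) (hm 0) (hm i) (hG 0) (hG i)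
  choose s hs using hp
  have hli : LinearIndependent F e := by
    rw [Fintype.linearIndependent_iff]
    intro t ht i
    have h := congrArg (Orth.formQ H.h₂ (e i)) ht
    rw [map_sum, map_zero, Finset.sum_eq_single i (fun j _ hji => by
      rw [map_smul, Orth.formQ_apply, ho j i hji, smul_zero]) (fun h => absurd (Finset.mem_univ i) h),
      map_smul, Orth.formQ_apply, Orth.pol_self H.h₂, smul_eq_mul] at h
    exact (mul_eq_zero.1 h).resolve_right (mul_ne_zero H.two (he i))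
  obtain ⟨c, hcS, hc0, hc⟩ := Orth.exists_singular H.h₂ (X := Submodule.span F (Set.range e))
    (by rw [finrank_span_eq_card hli, Fintype.card_fin])
  obtain ⟨t, rfl⟩ := (Submodule.mem_span_range_iff_exists_fun F).1 hcS
  obtain ⟨c', hc'⟩ : ∃ c', c' = ∑ i, (t i * s i) • f i := ⟨_, rfl⟩
  have himg : ∀ u, mv y (ten u (∑ i, t i • e i)) = ten (G 0 u) c' := fun u => by
    simp only [hc', Fin.sum_univ_three, ten_add_right, ten_smul_right, mv_add, mv_smul]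
    rw [hG 0, hG 1, hG 2]
    conv_lhs => rw [hs 0 u, hs 1 u, hs 2 u]
    simp only [ten_smul_left, mul_smul]
  obtain ⟨i₀⟩ := H.nonempty
  have hc'0 : c' ≠ 0 := fun h => by
    have := himg (Pi.single i₀ 1)
    rw [h, ten_zero_right] at this
    exact ten_ne_zero (u := Pi.single i₀ (1 : F)) (by simp) hc0 (mv_inj y (this.trans (mv_zero y).symm))
  obtain ⟨v, -, hv⟩ := Orth.exists_anisotropic H.h₁ (Orth.nondeg_top H.h₁) (fun h => by
    have := H.hα
    have e := congrArg (fun S : Submodule F (α → F) => Module.finrank F S) h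
    simp only [finrank_top, Module.finrank_pi, finrank_bot] at e
    omega)
  obtain ⟨r, hr⟩ := (hm 0).surj v
  have hr' : G 0 r = v := by
    obtain ⟨θ, hθ⟩ := exists_dot_one (H.ne_zero ((hm 0).q H hy (he 0)))
    have e1 := congrArg (ctr θ) ((hG 0 r).symm.trans hr)
    rwa [ctr_ten, ctr_ten, hθ, one_smul, one_smul] at e1
  have hqc' : q₂ c' = 0 := by
    have e1 := Orth.mem_isometry.1 (H.le hy) (ten r (∑ i, t i • e i))
    rw [himg, hr', H.q_iso_right hc, H.q_ten] at e1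
    exact (mul_eq_zero.1 e1).resolve_left (mul_ne_zero H.two hv)
  exact kron_of_line H.toCtx H.hb5 H.centre H.middle hy hc0 hc hc'0 hqc'
    (maps_of_forall hc0 hc'0 fun u => by rw [himg]; exact ten_mem_line _ _)

end Cfsg.Agent.OrthTensorOdd
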