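/-
A conjugate of a mirror which is a product comes from sending the line of the mirror to a line.
-/
import Cfsg.Agent.Lib.OrthTensorOdd.Mirror

set_option autoImplicit false
set_option linter.unusedSectionVars false

namespace Cfsg.Agent.OrthTensorOdd

open scoped Matrix Kronecker
open Matrix Cfsg.Agent.Transvec Cfsg.Agent.TensorMax
open Cfsg.Agent.TensorMax.U (kr mv_kr_ten isKron_kr isKron_mul isKron_inv mv_kron_ten ext_ten_mv)
open Cfsg.Agent.Transvec.Orth (pol IsSiegel)
open Cfsg.Agent.OrthTensorMirror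

variable {α β : Type} [Fintype α] [DecidableEq α] [Fintype β] [DecidableEq β] {F : Type*} [Field F]
variable {Q : (α × β → F) → F} {q₁ : (α → F) → F} {q₂ : (β → F) → F}
variable {M : Subgroup (GL (α × β) F)}

/-- The fixed vectors of a map. -/
def eigen {V : Type*} [AddCommGroup V] [Module F V] (f : V →ₗ[F] V) (s : F) : Submodule F V :=
  LinearMap.ker (f - s • LinearMap.id)

theorem mem_eigen {V : Type*} [AddCommGroup V] [Module F V] {f : V →ₗ[F] V} {s : F} {v : V} :
    v ∈ eigen f s ↔ f v = s • v := by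
  rw [eigen, LinearMap.mem_ker, LinearMap.sub_apply, LinearMap.smul_apply, LinearMap.id_apply, sub_eq_zero]

theorem eigen_neg {V : Type*} [AddCommGroup V] [Module F V] (f : V →ₗ[F] V) (s : F) :
    eigen (-f) s = eigen f (-s) := Submodule.ext fun v => by
  rw [mem_eigen, mem_eigen, LinearMap.neg_apply, neg_smul, neg_eq_iff_eq_neg]

theorem eigen_card {V : Type*} [AddCommGroup V] [Module F V] [FiniteDimensional F V] {f : V →ₗ[F] V}
    (hf : ∀ v, f (f v) = v) :
    Module.finrank F V ≤ Module.finrank F ↥(eigen f 1) + Module.finrank F ↥(eigen f (-1)) := by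
  have h := LinearMap.finrank_range_add_finrank_ker (f - (-1 : F) • LinearMap.id)
  have hle : LinearMap.range (f - (-1 : F) • LinearMap.id) ≤ eigen f 1 := by
    rintro _ ⟨v, rfl⟩
    rw [mem_eigen, LinearMap.sub_apply, LinearMap.smul_apply, LinearMap.id_apply, map_sub, map_smul, hf, one_smul]
    module
  have := Submodule.finrank_mono hle
  rw [eigen, eigen] at *
  omega

theorem eq_id_of_eigen {V : Type*} [AddCommGroup V] [Module F V] {f : V →ₗ[F] V}
    (hf : ∀ v, f (f v) = v) {s : F} (hs : s * s = 1) (h : eigen f s = ⊥) (v : V) : f v = (-s) • v := by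
  have hm : f v + s • v ∈ eigen f s := mem_eigen.2 (by
    rw [map_add, map_smul, hf, smul_add, smul_smul, hs, one_smul, add_comm])
  rw [h, Submodule.mem_bot, add_eq_zero_iff_eq_neg] at hm
  rw [hm, neg_smul]

section Cases

variable (H : Hyp Q q₁ q₂ M) {k : GL (α × β) F} {X : Submodule F (α × β → F)}
variable {Al : (α → F) →ₗ[F] α → F} {Bl : (β → F) →ₗ[F] β → F}
variable (hX : ∀ x, mv k x = x ↔ x ∈ X) (hdim : Module.finrank F X = Fintype.card α)
variable (hk : ∀ u w, mv k (ten u w) = ten (Al u) (Bl w))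
include H hX hdim hk

/-- The first map is the identity. -/
theorem line_of_left_id (hA : ∀ u, Al u = u) : ∃ w', w' ≠ 0 ∧ X = line α w' := by
  haveI := H.nonempty
  obtain ⟨x, hxX, hx0⟩ := X.exists_mem_ne_zero_of_ne_bot fun h => by
    rw [h, finrank_bot] at hdim
    have := H.hα
    omega
  obtain ⟨θ, hθ⟩ : ∃ θ : α → F, ctrL θ x ≠ 0 := by
    by_contra hcon
    push Not at hcon
    refine hx0 (eq_zero_of_ctr fun φ => dotProduct_eq_zero _ fun θ => ?_)
    have := congrArg (fun v => φ ⬝ᵥ v) (hcon θ)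
    rw [dot_ctrL, dotProduct_zero] at this
    rw [dotProduct_comm]
    exact this
  have e : (ctrL θ).comp (mvLin k) = Bl.comp (ctrL θ) := ext_ten fun u w => by
    simp only [LinearMap.comp_apply, Matrix.toLin'_apply]
    show ctrL θ (mv k (ten u w)) = _
    rw [hk, hA, ctrL_ten, ctrL_ten, map_smul]
  have hB : Bl (ctrL θ x) = ctrL θ x := by
    have := LinearMap.congr_fun e x
    simp only [LinearMap.comp_apply, Matrix.toLin'_apply] at this
    rw [← this]
    show ctrL θ (mv k x) = _
    rw [(hX x).2 hxX]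
  refine ⟨ctrL θ x, hθ, (Submodule.eq_of_le_of_finrank_le (fun y hy => ?_) ?_).symm⟩
  · obtain ⟨u, rfl⟩ := mem_line.1 hy
    exact (hX _).1 (by rw [hk, hA, hB])
  · rw [hdim, finrank_line hθ]

/-- The second map cannot be the identity while the first is not scalar. -/
theorem right_id_false (hB : ∀ w, Bl w = w) : False := by
  have hb5 := H.hb5
  have hin : ∀ e, e ∈ eigen Al 1 → ∀ w, ten e w ∈ X := fun e he w => (hX _).1 (by
    rw [hk, mem_eigen.1 he, one_smul, hB])
  have hout : ∀ x ∈ X, ∀ φ : β → F, ctr φ x ∈ eigen Al 1 := fun x hx φ => by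
    have e : (ctr φ).comp (mvLin k) = Al.comp (ctr φ) := ext_ten fun u w => by
      simp only [LinearMap.comp_apply, Matrix.toLin'_apply]
      show ctr φ (mv k (ten u w)) = _
      rw [hk, hB, ctr_ten, ctr_ten, map_smul]
    have := LinearMap.congr_fun e x
    simp only [LinearMap.comp_apply, Matrix.toLin'_apply] at this
    rw [mem_eigen, one_smul, ← this]
    show ctr φ (mv k x) = _
    rw [(hX x).2 hx]
  obtain ⟨e, he, he0⟩ := (eigen Al 1).exists_mem_ne_zero_of_ne_bot fun h => by
    have hb : X = ⊥ := (Submodule.eq_bot_iff _).2 fun x hx => eq_zero_of_ctr fun φ => by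
      have := hout x hx φ
      rwa [h, Submodule.mem_bot] at this
    rw [hb, finrank_bot] at hdim
    have := H.hα
    omega
  by_cases hsp : eigen Al 1 ≤ Submodule.span F {e}
  · obtain ⟨θ, hθ⟩ := exists_dot_one he0
    have hXr : X = LinearMap.range (lam e : (β → F) →ₗ[F] α × β → F) := by
      refine le_antisymm ?_ ?_
      · intro x hx
        refine ⟨ctrL θ x, ?_⟩
        rw [lam_apply, ← sub_eq_zero]
        refine eq_zero_of_ctr fun φ => ?_
        obtain ⟨t, ht⟩ := Submodule.mem_span_singleton.1 (hsp (hout x hx φ))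
        rw [map_sub, ctr_ten, dot_ctrL, ← ht, dotProduct_smul, hθ, smul_eq_mul, mul_one, sub_self]
      · rintro _ ⟨w, rfl⟩
        exact hin e he w
    rw [hXr, LinearMap.finrank_range_of_inj fun w w' h => by
      have := congrArg (ctrL θ) h
      rwa [lam_apply, lam_apply, ctrL_ten, ctrL_ten, hθ, one_smul, one_smul] at this,
      Module.finrank_fintype_fun_eq_card] at hdim
    exact Nat.not_even_iff_odd.2 H.oddβ (hdim ▸ H.evenα)
  · obtain ⟨e', he', hne⟩ := SetLike.not_le_iff_exists.1 hsp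
    obtain ⟨φ, hφ, hφ'⟩ := exists_dot hne
    have h0 : φ ⬝ᵥ e = 0 := hφ e (Submodule.mem_span_singleton_self e)
    obtain ⟨θ, hθ⟩ := exists_dot_one he0
    let L : (β → F) × (β → F) →ₗ[F] X :=
      ((lam e).comp (LinearMap.fst F (β → F) (β → F)) + (lam e').comp (LinearMap.snd F (β → F) (β → F))).codRestrict X
        fun p => X.add_mem (hin e he _) (hin e' he' _)
    have hL : Function.Injective L := by
      rw [← LinearMap.ker_eq_bot, LinearMap.ker_eq_bot']
      rintro ⟨v, v'⟩ hp
      have h1 : ten e v + ten e' v' = 0 := congrArg Subtype.val hp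
      have h2 := congrArg (ctrL φ) h1
      rw [map_add, map_zero, ctrL_ten, ctrL_ten, h0, hφ', zero_smul, zero_add, one_smul] at h2
      subst h2
      rw [ten_zero_right, add_zero] at h1
      have h3 := congrArg (ctrL θ) h1
      rw [map_zero, ctrL_ten, hθ, one_smul] at h3
      rw [h3]
      rfl
    have := LinearMap.finrank_le_finrank_of_injective hL
    rw [Module.finrank_prod, Module.finrank_fintype_fun_eq_card, hdim] at this
    have := H.hle
    omega

/-- Both maps cannot be non-scalar. -/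
theorem both_false (hA : ∀ u, Al (Al u) = u) (hA1 : eigen Al 1 ≠ ⊥)
    (hB2 : 2 ≤ Module.finrank F ↥(eigen Bl 1)) (hB1 : eigen Bl (-1) ≠ ⊥) : False := by
  obtain ⟨v, hv⟩ := exists_linearIndependent_of_le_finrank (R := F) (M := eigen Bl 1) (n := 2) hB2
  obtain ⟨z, hz, hz0⟩ := (eigen Bl (-1)).exists_mem_ne_zero_of_ne_bot hB1
  set a : β → F := ((v 0 : ↥(eigen Bl 1)) : β → F) with ha
  set b : β → F := ((v 1 : ↥(eigen Bl 1)) : β → F) with hb
  have hai : Bl a = a := by rw [mem_eigen.1 (v 0).2, one_smul]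
  have hbi : Bl b = b := by rw [mem_eigen.1 (v 1).2, one_smul]
  have hzi : Bl z = -z := by rw [mem_eigen.1 hz, neg_one_smul]
  have hind : ∀ r s t : F, r • a + s • b + t • z = 0 → r = 0 ∧ s = 0 ∧ t = 0 := by
    intro r s t h
    have h' := congrArg Bl h
    simp only [map_add, map_smul, hai, hbi, hzi, map_zero] at h'
    have ht : t = 0 := by
      have : (2 * t) • z = 0 := by linear_combination (norm := module) h - h'
      exact (mul_eq_zero.1 ((smul_eq_zero.1 this).resolve_right hz0)).resolve_left H.two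
    rw [ht, zero_smul, add_zero] at h
    have h2 : r • v 0 + s • v 1 = 0 := Subtype.ext h
    obtain ⟨h3, h4⟩ := LinearIndependent.pair_iff.1
      (show LinearIndependent F ![v 0, v 1] by convert hv using 1; funext i; fin_cases i <;> rfl) r s h2
    exact ⟨h3, h4, ht⟩
  let L : ↥(eigen Al 1) × ↥(eigen Al (-1)) × ↥(eigen Al 1) →ₗ[F] X :=
    (((rho a).comp (eigen Al 1).subtype).comp (LinearMap.fst F _ _) +
      ((((rho z).comp (eigen Al (-1)).subtype).comp (LinearMap.fst F _ _) +
        ((rho b).comp (eigen Al 1).subtype).comp (LinearMap.snd F _ _))).comp (LinearMap.snd F _ _)).codRestrict X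
      fun p => by
        refine X.add_mem ((hX _).1 ?_) (X.add_mem ((hX _).1 ?_) ((hX _).1 ?_))
        · show mv k (ten (p.1 : α → F) a) = ten (p.1 : α → F) a
          rw [hk, mem_eigen.1 p.1.2, one_smul, hai]
        · show mv k (ten (p.2.1 : α → F) z) = ten (p.2.1 : α → F) z
          rw [hk, mem_eigen.1 p.2.1.2, hzi]
          funext i
          simp [ten]
        · show mv k (ten (p.2.2 : α → F) b) = ten (p.2.2 : α → F) b
          rw [hk, mem_eigen.1 p.2.2.2, one_smul, hbi]
  have hL : Function.Injective L := by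
    rw [← LinearMap.ker_eq_bot, LinearMap.ker_eq_bot']
    rintro ⟨e, f, e'⟩ hp
    have h1 : ten (e : α → F) a + (ten (f : α → F) z + ten (e' : α → F) b) = 0 := congrArg Subtype.val hp
    have key : ∀ i, (e : α → F) i = 0 ∧ (e' : α → F) i = 0 ∧ (f : α → F) i = 0 := fun i =>
      hind _ _ _ (by
        funext j
        have := congrFun h1 (i, j)
        simp only [Pi.add_apply, ten_apply, Pi.zero_apply] at this
        simp only [Pi.add_apply, Pi.smul_apply, smul_eq_mul, Pi.zero_apply]
        linear_combination this)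
    exact Prod.ext (Subtype.ext (funext fun i => (key i).1))
      (Prod.ext (Subtype.ext (funext fun i => (key i).2.2)) (Subtype.ext (funext fun i => (key i).2.1)))
  have h1 := LinearMap.finrank_le_finrank_of_injective hL
  have h2 := eigen_card hA
  rw [Module.finrank_prod, Module.finrank_prod, hdim] at h1
  rw [Module.finrank_fintype_fun_eq_card] at h2
  have h3 : 0 < Module.finrank F ↥(eigen Al 1) :=
    Nat.pos_of_ne_zero fun h => hA1 (Submodule.finrank_eq_zero.1 h)
  omega

end Cases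

/-- A product conjugate of a mirror sends the line of the mirror to a line. -/
theorem line_of_kron_conj [Fintype F] (H : Hyp Q q₁ q₂ M) {g m : GL (α × β) F} (hg : g ∈ M) {w : β → F}
    (hm : IsMir q₂ m w) (hk : IsKron (g * m * g⁻¹)) : ∃ w', q₂ w' ≠ 0 ∧ Maps g w w' := by
  classical
  haveI := H.nonempty
  haveI : Nonempty β := Fintype.card_pos_iff.1 (by have := H.hb5; omega)
  have hw0 := H.ne_zero hm.1
  set k := g * m * g⁻¹ with hkdef
  set X := (line α w).map (mvLin g) with hXdef
  have hX : ∀ x, mv k x = x ↔ x ∈ X := by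
    refine fun x => ⟨fun h => mem_map_mv.2 ⟨mv g⁻¹ x, mir_fixed H hm ?_, mv_mv_inv g x⟩, fun h => ?_⟩
    · conv_rhs => rw [← h, hkdef, mv_mul, mv_mul, mv_inv_mv]
    · obtain ⟨y, hy, rfl⟩ := mem_map_mv.1 h
      obtain ⟨u, rfl⟩ := mem_line.1 hy
      rw [hkdef, mv_mul, mv_mul, mv_inv_mv, mir_self H hm]
  have hdim : Module.finrank F X = Fintype.card α := by rw [hXdef, finrank_map_mv, finrank_line hw0]
  have hk2 : k * k = 1 := by
    rw [hkdef, show g * m * g⁻¹ * (g * m * g⁻¹) = g * (m * m) * g⁻¹ by group, mir_sq H hm, mul_one, mul_inv_cancel]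
  obtain ⟨A, B, hAB⟩ := mv_kron_ten hk
  have hsq : ∀ u z, ten (mv (A * A) u) (mv (B * B) z) = ten u z := fun u z => by
    rw [mv_mul, mv_mul, ← hAB, ← hAB, ← mv_mul, hk2, mv_one]
  obtain ⟨i₀⟩ := ‹Nonempty α›
  obtain ⟨θ, hθ⟩ : ∃ θ : α → F, θ ⬝ᵥ mv (A * A) (Pi.single i₀ 1) = 1 :=
    exists_dot_one fun h => by
      have := mv_inj (A * A) (h.trans (mv_zero _).symm)
      simpa using congrFun this i₀
  obtain ⟨t, ht⟩ : ∃ t, t = θ ⬝ᵥ Pi.single i₀ 1 := ⟨_, rfl⟩
  have hB2 : ∀ z, mv (B * B) z = t • z := fun z => by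
    have e := congrArg (ctrL θ) (hsq (Pi.single i₀ 1) z)
    rwa [ctrL_ten, ctrL_ten, hθ, one_smul, ← ht] at e
  obtain ⟨j, hj⟩ := H.oddβ
  have hdet : (B : Matrix β β F).det * (B : Matrix β β F).det = t ^ (2 * j + 1) := by
    have e : ((B * B : GL β F) : Matrix β β F) = t • 1 := Matrix.toLin'.injective (LinearMap.ext fun z => by
      rw [Matrix.toLin'_apply, Matrix.toLin'_apply, Matrix.smul_mulVec, Matrix.one_mulVec]
      exact hB2 z)
    have := congrArg Matrix.det e
    rwa [Units.val_mul, Matrix.det_mul, Matrix.det_smul, Matrix.det_one, mul_one, hj] at this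
  have ht0 : t ≠ 0 := fun h => by
    obtain ⟨j₀⟩ := ‹Nonempty β›
    have := mv_inj (B * B) ((hB2 (Pi.single j₀ 1)).trans (by rw [h, zero_smul, mv_zero]))
    simpa using congrFun this j₀
  obtain ⟨s, hs0, hs⟩ : ∃ s : F, s ≠ 0 ∧ s * s = t := by
    refine ⟨(B : Matrix β β F).det / t ^ j, fun h => ?_, ?_⟩
    · rcases div_eq_zero_iff.1 h with h | h
      · rw [h, mul_zero] at hdet
        exact pow_ne_zero _ ht0 hdet.symm
      · exact pow_ne_zero _ ht0 h
    · rw [div_mul_div_comm, hdet, div_eq_iff (mul_ne_zero (pow_ne_zero _ ht0) (pow_ne_zero _ ht0))]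
      ring
  obtain ⟨Al, hAl⟩ : ∃ L : (α → F) →ₗ[F] α → F, ∀ u, L u = s • mv A u := ⟨s • mvLin A, fun u => by simp⟩
  obtain ⟨Bl, hBl⟩ : ∃ L : (β → F) →ₗ[F] β → F, ∀ z, L z = s⁻¹ • mv B z := ⟨s⁻¹ • mvLin B, fun z => by simp⟩
  have hkl : ∀ u z, mv k (ten u z) = ten (Al u) (Bl z) := fun u z => by
    rw [hAB, hAl, hBl, ten_smul_left, ten_smul_right, smul_smul, mul_inv_cancel₀ hs0, one_smul]
  have hB1 : ∀ z, Bl (Bl z) = z := fun z => by
    rw [hBl, hBl, mv_smul, ← mv_mul, hB2, smul_smul, smul_smul, ← hs]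
    rw [show s⁻¹ * s⁻¹ * (s * s) = 1 by field_simp, one_smul]
  have hA1 : ∀ u, Al (Al u) = u := fun u => by
    obtain ⟨j₀⟩ := ‹Nonempty β›
    have e : ten (Al (Al u)) (Bl (Bl (Pi.single j₀ 1))) = ten u (Pi.single j₀ 1) := by
      rw [← hkl, ← hkl, ← mv_mul, hk2, mv_one]
    rw [hB1] at e
    exact funext fun i => by simpa [ten] using congrFun e (i, j₀)
  have hkn : ∀ u z, mv k (ten u z) = ten ((-Al) u) ((-Bl) z) := fun u z => by
    rw [hkl]
    funext i
    simp [ten]
  have fin : (∃ w', w' ≠ 0 ∧ X = line α w') → ∃ w', q₂ w' ≠ 0 ∧ Maps g w w' := by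
    rintro ⟨w', -, h⟩
    exact ⟨w', Maps.q H hg (show Maps g w w' from h) hm.1, h⟩
  by_cases hAp : eigen Al 1 = ⊥
  · refine fin (line_of_left_id H hX hdim hkn fun u => ?_)
    rw [LinearMap.neg_apply, eq_id_of_eigen hA1 (one_mul 1) hAp, neg_one_smul, neg_neg]
  by_cases hAm : eigen Al (-1) = ⊥
  · refine fin (line_of_left_id H hX hdim hkl fun u => ?_)
    rw [eq_id_of_eigen hA1 (by ring) hAm, neg_neg, one_smul]
  exfalso
  by_cases hBp : eigen Bl 1 = ⊥
  · refine right_id_false H hX hdim hkn fun z => ?_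
    rw [LinearMap.neg_apply, eq_id_of_eigen hB1 (one_mul 1) hBp, neg_one_smul, neg_neg]
  by_cases hBm : eigen Bl (-1) = ⊥
  · refine right_id_false H hX hdim hkl fun z => ?_
    rw [eq_id_of_eigen hB1 (by ring) hBm, neg_neg, one_smul]
  by_cases h2 : 2 ≤ Module.finrank F ↥(eigen Bl 1)
  · exact both_false H hX hdim hkl hA1 hAp h2 hBm
  · have h5 := eigen_card hB1
    rw [Module.finrank_fintype_fun_eq_card] at h5
    have := H.hb5
    refine both_false H hX hdim hkn (fun u => by simp [hA1]) (by rw [eigen_neg]; exact hAm)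
      (by rw [eigen_neg]; omega) (by rw [eigen_neg, neg_neg]; exact hBp)

end Cfsg.Agent.OrthTensorOdd
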