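/-
Descent along orthogonal frames of the odd factor: every member is a product.
-/
import Cfsg.Agent.Lib.OrthTensorOdd.Invol
import Cfsg.Agent.Lib.OrthTensor.Meet

set_option autoImplicit false
set_option linter.unusedSectionVars false

namespace Cfsg.Agent.OrthTensorOdd

open scoped Matrix Kronecker
open Matrix Cfsg.Agent.Transvec Cfsg.Agent.TensorMax
open Cfsg.Agent.TensorMax.U (kr mv_kr_ten isKron_kr isKron_mul isKron_inv mv_kron_ten ext_ten_mv)
open Cfsg.Agent.Transvec.Orth (pol IsSiegel)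
open Cfsg.Agent.OrthTensorMirror

variable {α β : Type} [Fintype α] [DecidableEq α] [Fintype β] [DecidableEq β] {F : Type*} [Field F]
variable {Q : (α × β → F) → F} {q₁ : (α → F) → F} {q₂ : (β → F) → F}
variable {M : Subgroup (GL (α × β) F)}

/-- Two involutions: conjugate, or a central involution of their group with two properties. -/
theorem dihedral {G : Type*} [Group G] [Finite G] {H : Subgroup G} {t s : G} (ht : t * t = 1) (hs : s * s = 1)
    (htH : t ∈ H) (hsH : s ∈ H) (hnc : ∀ x ∈ H, x * t * x⁻¹ ≠ s) :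
    ∃ z ∈ H, z ≠ 1 ∧ z * z = 1 ∧ t * z = z * t ∧ s * z = z * s ∧
      ∃ x ∈ H, t * z = x * t * x⁻¹ ∨ t * z = x * s * x⁻¹ := by
  obtain ⟨r, hr⟩ : ∃ r, r = t * s := ⟨_, rfl⟩
  have hrH : r ∈ H := hr ▸ H.mul_mem htH hsH
  have hti : t⁻¹ = t := inv_eq_of_mul_eq_one_right ht
  have hsi : s⁻¹ = s := inv_eq_of_mul_eq_one_right hs
  have htr : ∀ n : ℤ, t * r ^ n * t⁻¹ = r ^ (-n) := fun n => by
    rw [← _root_.conj_zpow, _root_.zpow_neg, ← _root_.inv_zpow]
    congr 1
    rw [hr, _root_.mul_inv_rev, hsi, hti, ← mul_assoc, ht, one_mul]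
  have hsr : ∀ n : ℤ, s * r ^ n * s⁻¹ = r ^ (-n) := fun n => by
    rw [← _root_.conj_zpow, _root_.zpow_neg, ← _root_.inv_zpow]
    congr 1
    rw [hr, _root_.mul_inv_rev, hsi, hti, mul_assoc, mul_assoc, hs, mul_one]
  have key : ∀ n : ℤ, r ^ n * t * (r ^ n)⁻¹ = t * r ^ (-(2 * n)) := fun n => by
    have h1 : r ^ n * t = t * r ^ (-n) := by rw [← htr n, hti, ← mul_assoc, ← mul_assoc, ht, one_mul]
    rw [h1, mul_assoc, ← _root_.zpow_neg, ← _root_.zpow_add]
    congr 2; ring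
  have hst : s = t * r := by rw [hr, ← mul_assoc, ht, one_mul]
  rcases Nat.even_or_odd' (orderOf r) with ⟨k, hk | hk⟩
  swap
  · exfalso
    refine hnc (r ^ (k : ℤ)) (H.zpow_mem hrH _) ?_
    have h1 : r ^ (2 * (k : ℤ) + 1) = 1 := by
      rw [show (2 * (k : ℤ) + 1) = ((2 * k + 1 : ℕ) : ℤ) by push_cast; ring, _root_.zpow_natCast, ← hk, pow_orderOf_eq_one]
    rw [key, hst]
    congr 1
    rw [show -(2 * (k : ℤ)) = -(2 * (k : ℤ) + 1) + 1 by ring, _root_.zpow_add, _root_.zpow_one, _root_.zpow_neg, h1, inv_one, one_mul]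
  have hpos := orderOf_pos r
  have h2k : r ^ (2 * (k : ℤ)) = 1 := by
    rw [show (2 * (k : ℤ)) = ((2 * k : ℕ) : ℤ) by push_cast; ring, _root_.zpow_natCast, ← hk, pow_orderOf_eq_one]
  have hzi : r ^ (-(k : ℤ)) = r ^ (k : ℤ) := by
    rw [show -(k : ℤ) = -(2 * (k : ℤ)) + k by ring, _root_.zpow_add, _root_.zpow_neg, h2k, inv_one, one_mul]
  refine ⟨r ^ (k : ℤ), H.zpow_mem hrH _, fun h => ?_, by rw [← _root_.zpow_add, ← two_mul, h2k], ?_, ?_, ?_⟩
  · rw [_root_.zpow_natCast] at h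
    have := Nat.le_of_dvd (by omega) (orderOf_dvd_of_pow_eq_one h)
    omega
  · have := htr k
    rwa [hzi, mul_inv_eq_iff_eq_mul] at this
  · have := hsr k
    rwa [hzi, mul_inv_eq_iff_eq_mul] at this
  obtain ⟨j, hj | hj⟩ := Nat.even_or_odd' k
  · refine ⟨r ^ (j : ℤ), H.zpow_mem hrH _, Or.inl ?_⟩
    rw [key, show -(2 * (j : ℤ)) = -(k : ℤ) by rw [hj]; push_cast; ring, hzi]
  · refine ⟨r ^ (-(j : ℤ)), H.zpow_mem hrH _, Or.inr ?_⟩
    rw [hst, ← mul_assoc, show r ^ (-(j : ℤ)) * t = t * r ^ (j : ℤ) by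
      have := htr j
      rw [mul_inv_eq_iff_eq_mul] at this
      exact this.symm, mul_assoc (t * r ^ (j : ℤ)), mul_assoc t, ← _root_.zpow_neg_one, ← _root_.zpow_mul, ← _root_.zpow_one_add,
      ← _root_.zpow_add]
    congr 2
    rw [hj]; push_cast; ring

/-- A set of mutually orthogonal anisotropic vectors. -/
def OFrame (q₂ : (β → F) → F) (S : Finset (β → F)) : Prop :=
  (∀ z ∈ S, q₂ z ≠ 0) ∧ ∀ z ∈ S, ∀ w ∈ S, z ≠ w → pol q₂ z w = 0

theorem OFrame.notMem (H : Hyp Q q₁ q₂ M) {S : Finset (β → F)} {v : β → F} (hv : q₂ v ≠ 0)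
    (ho : ∀ z ∈ S, pol q₂ z v = 0) : v ∉ S := fun h => by
  have := ho v h
  rw [Orth.pol_self H.h₂] at this
  exact mul_ne_zero H.two hv this

theorem OFrame.insert' [DecidableEq (β → F)] {S : Finset (β → F)} (hS : OFrame q₂ S) {v : β → F}
    (hv : q₂ v ≠ 0) (ho : ∀ z ∈ S, pol q₂ z v = 0) : OFrame q₂ (insert v S) := by
  refine ⟨fun z hz => ?_, fun z hz w hw hzw => ?_⟩
  · rcases Finset.mem_insert.1 hz with rfl | h
    exacts [hv, hS.1 z h]
  · rcases Finset.mem_insert.1 hz with h | h <;> rcases Finset.mem_insert.1 hw with h' | h'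
    · exact absurd (h.trans h'.symm) hzw
    · rw [Orth.pol_comm, h]; exact ho w h'
    · rw [h']; exact ho z h
    · exact hS.2 z h w h' hzw

/-- The space orthogonal to a frame. -/
theorem OFrame.perp (H : Hyp Q q₁ q₂ M) {S : Finset (β → F)} (hS : OFrame q₂ S) :
    Orth.Nondeg q₂ (Orth.orth H.h₂ (Submodule.span F (S : Set (β → F)))) ∧
      Module.finrank F ↥(Orth.orth H.h₂ (Submodule.span F (S : Set (β → F)))) + S.card = Fintype.card β := by
  classical
  induction S using Finset.induction_on with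
  | empty =>
    have e : Orth.orth H.h₂ (Submodule.span F ((∅ : Finset (β → F)) : Set (β → F))) = ⊤ :=
      eq_top_iff.2 fun v _ => (Orth.mem_orth_span H.h₂).2 fun s hs => by simp at hs
    rw [e]
    exact ⟨Orth.nondeg_top H.h₂, by rw [finrank_top, Module.finrank_pi, Finset.card_empty, add_zero]⟩
  | insert v S hv ih =>
    obtain ⟨hn, hd⟩ := ih ⟨fun z hz => hS.1 z (Finset.mem_insert_of_mem hz),
      fun z hz w hw => hS.2 z (Finset.mem_insert_of_mem hz) w (Finset.mem_insert_of_mem hw)⟩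
    obtain ⟨hn', hd'⟩ := Orth.nondeg_perp H.h₂ H.two hn (a := v) ((Orth.mem_orth_span H.h₂).2 fun s hs =>
      hS.2 s (Finset.mem_insert_of_mem hs) v (Finset.mem_insert_self v S) fun h => hv (h ▸ hs))
      (hS.1 v (Finset.mem_insert_self v S))
    have e : Orth.orth H.h₂ (Submodule.span F ((insert v S : Finset (β → F)) : Set (β → F))) =
        Orth.orth H.h₂ (Submodule.span F (S : Set (β → F))) ⊓ Orth.orth H.h₂ (Submodule.span F {v}) := by
      ext x
      simp only [Submodule.mem_inf, Orth.mem_orth_span H.h₂, Finset.coe_insert, Set.mem_insert_iff,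
        Set.mem_singleton_iff, forall_eq_or_imp, forall_eq, and_comm]
    rw [e]
    exact ⟨hn', by rw [Finset.card_insert_of_notMem hv]; omega⟩

theorem OFrame.extend (H : Hyp Q q₁ q₂ M) {S : Finset (β → F)} (hS : OFrame q₂ S)
    (hc : S.card < Fintype.card β) : ∃ v, q₂ v ≠ 0 ∧ ∀ z ∈ S, pol q₂ z v = 0 := by
  obtain ⟨hn, hd⟩ := hS.perp H
  obtain ⟨v, hv, hq⟩ := Orth.exists_anisotropic H.h₂ hn fun h => by rw [h, finrank_bot] at hd; omega
  exact ⟨v, hq, fun z hz => (Orth.mem_orth_span H.h₂).1 hv z hz⟩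

theorem OFrame.complete (H : Hyp Q q₁ q₂ M) : ∀ (n : ℕ) {S : Finset (β → F)}, OFrame q₂ S →
    S.card + n = Fintype.card β → ∃ T, S ⊆ T ∧ OFrame q₂ T ∧ T.card = Fintype.card β
  | 0, S, hS, h => ⟨S, subset_rfl, hS, h⟩
  | n + 1, S, hS, h => by
    classical
    obtain ⟨v, hv, hvo⟩ := hS.extend H (by omega)
    have hn := OFrame.notMem H hv hvo
    obtain ⟨T, h1, h2, h3⟩ := OFrame.complete H n (hS.insert' hv hvo)
      (by rw [Finset.card_insert_of_notMem hn]; omega)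
    exact ⟨T, (Finset.subset_insert v S).trans h1, h2, h3⟩

/-- Coordinates along a full frame. -/
theorem OFrame.dec (H : Hyp Q q₁ q₂ M) {T : Finset (β → F)} (hT : OFrame q₂ T)
    (hc : T.card = Fintype.card β) (w : β → F) : w = ∑ t ∈ T, (pol q₂ w t / (2 * q₂ t)) • t := by
  obtain ⟨hn, hd⟩ := hT.perp H
  refine sub_eq_zero.1 ((Submodule.mem_bot F).1
    (Submodule.finrank_eq_zero.1 (show Module.finrank F ↥(Orth.orth H.h₂ (Submodule.span F (T : Set (β → F)))) = 0 by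
      omega) ▸ (Orth.mem_orth_span H.h₂).2 fun s hs => ?_))
  rw [Orth.pol_sub_right H.h₂, Orth.pol_comm s w]
  conv_lhs => arg 2; rw [Orth.pol_comm, ← Orth.formQ_apply H.h₂, map_sum]
  rw [Finset.sum_eq_single s (fun t ht hts => by
      rw [map_smul, Orth.formQ_apply, hT.2 t ht s hs hts, smul_zero]) (fun h => absurd hs h),
    map_smul, Orth.formQ_apply, Orth.pol_self H.h₂, smul_eq_mul,
    div_mul_cancel₀ _ (mul_ne_zero H.two (hT.1 s hs)), sub_self]

/-- Five orthogonal lines sent to lines force a product. -/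
theorem kron_of_frame [Fintype F] (H : Hyp Q q₁ q₂ M) {g : GL (α × β) F} (hg : g ∈ M) {T : Finset (β → F)}
    (hT : OFrame q₂ T) (h5 : 5 ≤ T.card) (hl : ∀ t ∈ T, ∃ t', Maps g t t') : IsKron g := by
  classical
  let e := Fintype.equivFin F
  have hside : ∀ s r : F, s ≠ 0 → s + r = 0 → ¬(e s < e (-s) ↔ e r < e (-r)) := by
    intro s r hs hsr hiff
    have hr : r = -s := eq_neg_of_add_eq_zero_right hsr
    rw [hr, neg_neg] at hiff
    rcases lt_trichotomy (e s) (e (-s)) with h | h | h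
    · exact lt_asymm h (hiff.1 h)
    · have h' := e.injective h
      exact mul_ne_zero H.two hs (by rw [two_mul]; nth_rewrite 2 [h']; exact add_neg_cancel s)
    · exact lt_asymm h (hiff.2 h)
  obtain ⟨A, hAT, hA3, hAs⟩ : ∃ A, A ⊆ T ∧ 3 ≤ A.card ∧
      ∀ a ∈ A, ∀ b ∈ A, (e (q₂ a) < e (-q₂ a) ↔ e (q₂ b) < e (-q₂ b)) := by
    have hsum := Finset.card_filter_add_card_filter_not (s := T) (fun z => e (q₂ z) < e (-q₂ z))
    by_cases h : 3 ≤ (T.filter fun z => e (q₂ z) < e (-q₂ z)).card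
    · exact ⟨_, Finset.filter_subset _ _, h, fun a ha b hb =>
        iff_of_true (Finset.mem_filter.1 ha).2 (Finset.mem_filter.1 hb).2⟩
    · exact ⟨_, Finset.filter_subset _ _, by omega, fun a ha b hb =>
        iff_of_false (Finset.mem_filter.1 ha).2 (Finset.mem_filter.1 hb).2⟩
  obtain ⟨A', hA', hcard⟩ := Finset.exists_subset_card_eq hA3
  let v : Fin 3 → β → F := fun i => ((Finset.equivFinOfCardEq hcard).symm i : β → F)
  have hvA : ∀ i, v i ∈ A := fun i => hA' ((Finset.equivFinOfCardEq hcard).symm i).2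
  have hvi : ∀ i j, i ≠ j → v i ≠ v j := fun i j hij h =>
    hij ((Finset.equivFinOfCardEq hcard).symm.injective (Subtype.ext h))
  choose f hf using fun i => hl (v i) (hAT (hvA i))
  exact kron_of_three H hg (fun i => hT.1 _ (hAT (hvA i)))
    (fun i j hij => hT.2 _ (hAT (hvA i)) _ (hAT (hvA j)) (hvi i j hij))
    (fun i j hij h => hside _ _ (hT.1 _ (hAT (hvA i))) h (hAs _ (hvA i) _ (hvA j))) hf

/-- The members preserving the lines of a set. -/
def stabZ (M : Subgroup (GL (α × β) F)) (Z : Finset (β → F)) : Subgroup (GL (α × β) F) where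
  carrier := {g | g ∈ M ∧ ∀ z ∈ Z, Maps g z z}
  mul_mem' {a b} ha hb := ⟨M.mul_mem ha.1 hb.1, fun z hz => (ha.2 z hz).comp (hb.2 z hz)⟩
  one_mem' := ⟨M.one_mem, fun z _ => le_antisymm
    (fun x hx => by
      obtain ⟨y, hy, rfl⟩ := mem_map_mv.1 hx
      rwa [mv_one])
    fun x hx => mem_map_mv.2 ⟨x, hx, mv_one x⟩⟩
  inv_mem' {a} ha := ⟨M.inv_mem ha.1, fun z hz => (ha.2 z hz).inv⟩

theorem mir_mem_stab (H : Hyp Q q₁ q₂ M) {Z : Finset (β → F)} (hZ : OFrame q₂ Z) {m : GL (α × β) F}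
    (hm : m ∈ M) {x : β → F} (hmx : IsMir q₂ m x) (ho : ∀ z ∈ Z, pol q₂ z x = 0) : m ∈ stabZ M Z :=
  ⟨hm, fun z hz => mir_maps_perp H hmx (H.ne_zero (hZ.1 z hz)) (ho z hz)⟩

theorem image_perp (H : Hyp Q q₁ q₂ M) {Z : Finset (β → F)} {g : GL (α × β) F} (hg : g ∈ stabZ M Z)
    {x x' : β → F} (hx : Maps g x x') (ho : ∀ z ∈ Z, pol q₂ z x = 0) : ∀ z ∈ Z, pol q₂ z x' = 0 :=
  fun z hz => (hg.2 z hz).pol H hg.1 hx (ho z hz)

/-- Sending one further line to a line is enough. -/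
theorem kron_of_one [Fintype F] [DecidableEq (β → F)] (H : Hyp Q q₁ q₂ M) {Z : Finset (β → F)}
    (hZ : OFrame q₂ Z)
    (IH : ∀ y, q₂ y ≠ 0 → (∀ z ∈ Z, pol q₂ z y = 0) → ∀ g ∈ stabZ M (insert y Z), IsKron g)
    {g : GL (α × β) F} (hg : g ∈ stabZ M Z) {x x' : β → F} (hx : q₂ x ≠ 0) (ho : ∀ z ∈ Z, pol q₂ z x = 0)
    (hxx : Maps g x x') : IsKron g := by
  have hxS := hZ.insert' hx ho
  obtain ⟨-, hd⟩ := hxS.perp H
  obtain ⟨T, hST, hT, hTc⟩ := OFrame.complete H (Fintype.card β - (insert x Z).card) hxS (by omega)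
  refine kron_of_frame H hg.1 hT (hTc.symm ▸ H.hb5) fun t ht => ?_
  by_cases htZ : t ∈ Z
  · exact ⟨t, hg.2 t htZ⟩
  by_cases htx : t = x
  · exact ⟨x', htx ▸ hxx⟩
  have hto : ∀ z ∈ Z, pol q₂ z t = 0 := fun z hz =>
    hT.2 z (hST (Finset.mem_insert_of_mem hz)) t ht fun h => htZ (h ▸ hz)
  have htx' : pol q₂ x t = 0 := hT.2 x (hST (Finset.mem_insert_self x Z)) t ht (Ne.symm htx)
  obtain ⟨m, hm, hmt⟩ := H.mir t (hT.1 t ht)
  have hk : g * m * g⁻¹ ∈ stabZ M (insert x' Z) := by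
    have h1 := Subgroup.mul_mem _ (Subgroup.mul_mem _ hg (mir_mem_stab H hZ hm hmt hto)) (Subgroup.inv_mem _ hg)
    refine ⟨h1.1, fun z hz => ?_⟩
    rcases Finset.mem_insert.1 hz with rfl | hz
    · exact (hxx.comp (mir_maps_perp H hmt (H.ne_zero hx) htx')).comp hxx.inv
    · exact h1.2 z hz
  obtain ⟨t', -, htt⟩ := line_of_kron_conj H hg.1 hmt
    (IH x' (hxx.q H hg.1 hx) (image_perp H hg hxx ho) _ hk)
  exact ⟨t', htt⟩

theorem exists_two_classes [Fintype F] (H : Hyp Q q₁ q₂ M) {Z : Finset (β → F)} (hZ : OFrame q₂ Z)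
    (hc : Z.card + 2 ≤ Fintype.card β) :
    ∃ x w, q₂ x ≠ 0 ∧ q₂ w ≠ 0 ∧ (∀ z ∈ Z, pol q₂ z x = 0) ∧ (∀ z ∈ Z, pol q₂ z w = 0) ∧
      ∀ s : F, q₂ w ≠ s ^ 2 * q₂ x := by
  classical
  obtain ⟨x, hx, hxo⟩ := hZ.extend H (by omega)
  have hn := OFrame.notMem H hx hxo
  obtain ⟨y, hy, hyo⟩ := (hZ.insert' hx hxo).extend H (by rw [Finset.card_insert_of_notMem hn]; omega)
  have hchar : ringChar F ≠ 2 := fun h => H.two (by
    haveI : CharP F 2 := ringChar.eq_iff.1 h
    exact CharP.cast_eq_zero F 2)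
  obtain ⟨ν, hν⟩ := FiniteField.exists_nonsquare hchar
  obtain ⟨a, b, hab⟩ := FiniteField.exists_root_sum_quadratic
    (f := Polynomial.C (q₂ x) * Polynomial.X ^ 2 - Polynomial.C (ν * q₂ x))
    (g := Polynomial.C (q₂ y) * Polynomial.X ^ 2)
    (by rw [Polynomial.degree_sub_C (by rw [Polynomial.degree_C_mul_X_pow 2 hx]; exact two_pos),
      Polynomial.degree_C_mul_X_pow 2 hx]; rfl)
    (by rw [Polynomial.degree_C_mul_X_pow 2 hy]; rfl)
    (FiniteField.odd_card_of_char_ne_two hchar)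
  have hν0 : ν ≠ 0 := fun h => hν (h ▸ IsSquare.zero)
  have hxy : pol q₂ x y = 0 := hyo x (Finset.mem_insert_self x Z)
  have hw : q₂ (a • x + b • y) = ν * q₂ x := by
    rw [Orth.q_add H.h₂, Orth.q_smul H.h₂, Orth.q_smul H.h₂, Orth.pol_smul_left H.h₂, Orth.pol_smul_right H.h₂, hxy]
    simp only [Polynomial.eval_sub, Polynomial.eval_mul, Polynomial.eval_pow, Polynomial.eval_X,
      Polynomial.eval_C] at hab
    linear_combination hab
  refine ⟨x, a • x + b • y, hx, by rw [hw]; exact mul_ne_zero hν0 hx, hxo, fun z hz => ?_, fun s hs => ?_⟩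
  · rw [Orth.pol_add_right H.h₂, Orth.pol_smul_right H.h₂, Orth.pol_smul_right H.h₂, hxo z hz,
      hyo z (Finset.mem_insert_of_mem hz), mul_zero, mul_zero, add_zero]
  · rw [hw] at hs
    exact hν ⟨s, by rw [← sq]; exact mul_right_cancel₀ hx hs⟩

/-- A product sends a line to a line with a value in the same square class. -/
theorem square_class (H : Hyp Q q₁ q₂ M) {y : GL (α × β) F} (hy : y ∈ M) (hk : IsKron y) {x w : β → F}
    (hx : q₂ x ≠ 0) (hxw : Maps y x w) : ∃ s : F, q₂ w = s ^ 2 * q₂ x := by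
  haveI := H.nonempty
  obtain ⟨A, B, hAB⟩ := mv_kron_ten hk
  obtain ⟨i₀⟩ := H.nonempty
  set u : α → F := Pi.single i₀ 1 with hu
  have hu0 : u ≠ 0 := by simp [u]
  obtain ⟨v, hv⟩ := H.exists_dual hu0
  obtain ⟨μ, hμ⟩ : ∃ μ, μ = pol q₁ (mv A u) (mv A v) := ⟨_, rfl⟩
  have hB : ∀ a b, μ * pol q₂ (mv B a) (mv B b) = pol q₂ a b := fun a b => by
    have e := H.iso hy (ten u a) (ten v b)
    rw [hAB, hAB, H.hpol, H.hpol, hv, one_mul, ← hμ] at e
    exact e
  have hμ0 : μ ≠ 0 := fun h => by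
    have := hB x x
    rw [h, zero_mul, Orth.pol_self H.h₂] at this
    exact mul_ne_zero H.two hx this.symm
  obtain ⟨s, -, hs⟩ := OrthTensor.similitude_square H.h₂ H.oddβ (mvLin B) (inv_ne_zero hμ0) fun a b => by
    simp only [Matrix.toLin'_apply]
    show pol q₂ (mv B a) (mv B b) = _
    rw [← hB a b, inv_mul_cancel_left₀ hμ0]
  obtain ⟨u', hu'⟩ := hxw.mem u
  rw [hAB] at hu'
  obtain ⟨ψ, hψ⟩ := exists_dot_one (fun h => hu0 (mv_inj A (h.trans (mv_zero A).symm)) : mv A u ≠ 0)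
  have e := congrArg (ctrL ψ) hu'
  rw [ctrL_ten, ctrL_ten, hψ, one_smul] at e
  obtain ⟨c, hc⟩ : ∃ c, c = ψ ⬝ᵥ u' := ⟨_, rfl⟩
  rw [← hc] at e
  have hq := hB x x
  rw [e, Orth.pol_smul_left H.h₂, Orth.pol_smul_right H.h₂, Orth.pol_self H.h₂, Orth.pol_self H.h₂] at hq
  have hc0 : c ≠ 0 := fun h => by
    rw [h, zero_mul, mul_zero] at hq
    exact mul_ne_zero H.two hx hq.symm
  have hq' : q₂ w = μ⁻¹ / c ^ 2 * q₂ x := by
    have h1 : μ * (c ^ 2 * q₂ w) = q₂ x := mul_left_cancel₀ H.two (by linear_combination hq)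
    rw [← h1]
    field_simp
  exact ⟨s / c, by rw [hq', div_pow, hs]⟩

/-- Every member preserving the lines of a frame is a product. -/
theorem all_kron_aux [Fintype F] (H : Hyp Q q₁ q₂ M) :
    ∀ (n : ℕ) {Z : Finset (β → F)}, OFrame q₂ Z → Z.card + n = Fintype.card β → ∀ g ∈ stabZ M Z, IsKron g
  | 0, Z, hZ, hc, g, hg => kron_of_frame H hg.1 hZ (by have := H.hb5; omega) fun t ht => ⟨t, hg.2 t ht⟩
  | 1, Z, hZ, hc, g, hg => by
    classical
    obtain ⟨x, hx, hxo⟩ := hZ.extend H (by omega)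
    have hn := OFrame.notMem H hx hxo
    have hT := hZ.insert' hx hxo
    have hTc : (insert x Z).card = Fintype.card β := by rw [Finset.card_insert_of_notMem hn]; omega
    have hgx : Maps g x x := maps_of_forall (H.ne_zero hx) (H.ne_zero hx) fun u =>
      mem_line_of_pc H.toCtx (H.ne_zero hx) fun w hw => by
        rw [hT.dec H hTc w]
        refine Finset.sum_induction _ (fun s => pc q₂ s (mv g (ten u x)) = 0) (fun a b ha hb => ?_) ?_ fun t ht => ?_
        · rw [pc_add_vec H.toCtx, LinearMap.add_apply, ha, hb, add_zero]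
        · rw [← zero_smul F x, pc_smul_vec H.toCtx, zero_smul]; rfl
        · rw [pc_smul_vec H.toCtx, LinearMap.smul_apply]
          rcases Finset.mem_insert.1 ht with rfl | htZ
          · rw [Orth.pol_comm, hw, zero_div, zero_smul]
          · rw [(hg.2 t htZ).perp H hg.1 (by rw [pc_ten H.toCtx, Orth.pol_comm, hxo t htZ, zero_smul]), smul_zero]
    refine kron_of_frame H hg.1 hT (by have := H.hb5; omega) fun t ht => ?_
    rcases Finset.mem_insert.1 ht with rfl | htZ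
    exacts [⟨_, hgx⟩, ⟨t, hg.2 t htZ⟩]
  | n + 2, Z, hZ, hc, g, hg => by
    classical
    have IH : ∀ y, q₂ y ≠ 0 → (∀ z ∈ Z, pol q₂ z y = 0) → ∀ g ∈ stabZ M (insert y Z), IsKron g :=
      fun y hy hyo => all_kron_aux H (n + 1) (hZ.insert' hy hyo)
        (by rw [Finset.card_insert_of_notMem (OFrame.notMem H hy hyo)]; omega)
    obtain ⟨x, w, hx, hw, hxo, hwo, hcls⟩ := exists_two_classes H hZ (by omega)
    obtain ⟨t, htM, htx⟩ := H.mir x hx
    obtain ⟨mw, hmwM, hmw⟩ := H.mir w hw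
    have htS := mir_mem_stab H hZ htM htx hxo
    have hmwS := mir_mem_stab H hZ hmwM hmw hwo
    have hsS : g * mw * g⁻¹ ∈ stabZ M Z :=
      Subgroup.mul_mem _ (Subgroup.mul_mem _ hg hmwS) (Subgroup.inv_mem _ hg)
    obtain ⟨z₀, hz₀, hz₀1, hz₀2, htz, hsz, y, hy, hor⟩ := dihedral (t := t) (s := g * mw * g⁻¹)
      (mir_sq H htx) (by rw [show g * mw * g⁻¹ * (g * mw * g⁻¹) = g * (mw * mw) * g⁻¹ by group, mir_sq H hmw,
        mul_one, mul_inv_cancel]) htS hsS (fun y hy heq => by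
        have h1 : Maps (g⁻¹ * y) x w := maps_of_conj H htx hmw (by
          rw [show g⁻¹ * y * t * (g⁻¹ * y)⁻¹ = g⁻¹ * (y * t * y⁻¹) * g by group, heq]
          group)
        have hyS := Subgroup.mul_mem _ (Subgroup.inv_mem _ hg) hy
        obtain ⟨s, hs⟩ := square_class H hyS.1 (kron_of_one H hZ IH hyS hx hxo h1) hx h1
        exact hcls s hs)
    have hz₀K : IsKron z₀ := IH x hx hxo z₀ ⟨hz₀.1, fun z hz => by
      rcases Finset.mem_insert.1 hz with rfl | hzZ
      · exact (commute_iff H hz₀.1 htx).1 htz.symm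
      · exact hz₀.2 z hzZ⟩
    have htzK : IsKron (t * z₀) := isKron_mul (mir_kron H htx) hz₀K
    obtain ⟨x'', hx''o, m'', hm''x, hm''⟩ : ∃ x'', (∀ z ∈ Z, pol q₂ z x'' = 0) ∧
        ∃ m'', IsMir q₂ m'' x'' ∧ t * z₀ = m'' := by
      rcases hor with h | h
      · obtain ⟨x'', hx'', hmaps⟩ := line_of_kron_conj H hy.1 htx (h ▸ htzK)
        obtain ⟨m'', hm''M, hm''x⟩ := H.mir x'' hx''
        exact ⟨x'', image_perp H hy hmaps hxo, m'', hm''x, by rw [h, conj_mir H hy.1 htx hm''x hmaps]⟩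
      · have hyg := Subgroup.mul_mem _ hy hg
        have h' : t * z₀ = y * g * mw * (y * g)⁻¹ := by rw [h]; group
        obtain ⟨x'', hx'', hmaps⟩ := line_of_kron_conj H hyg.1 hmw (h' ▸ htzK)
        obtain ⟨m'', hm''M, hm''x⟩ := H.mir x'' hx''
        exact ⟨x'', image_perp H hyg hmaps hwo, m'', hm''x, by rw [h', conj_mir H hyg.1 hmw hm''x hmaps]⟩
    have ht2 := mir_sq H htx
    have hperp : pol q₂ x'' x = 0 := by
      rcases mir_commute H htM htx hm''x (by rw [← hm'', mul_assoc, htz]) with h | h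
      · exact h
      exfalso
      obtain ⟨c, hc⟩ := Submodule.mem_span_singleton.1 h
      have hc0 : c ≠ 0 := fun h0 => H.ne_zero hx (by rw [← hc, h0, zero_smul])
      have h1 : Maps (1 : GL (α × β) F) x x'' := maps_of_forall (H.ne_zero hx) (H.ne_zero hm''x.1) fun u => by
        rw [mv_one, ← hc, ten_smul_right]
        exact Submodule.smul_mem _ _ (ten_mem_line _ _)
      have h2 := conj_mir H M.one_mem htx hm''x h1
      rw [one_mul, inv_one, mul_one, ← hm''] at h2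
      exact hz₀1 (left_eq_mul.1 h2)
    -- the centraliser of the central involution consists of products
    have hcent : ∀ v ∈ stabZ M Z, v * z₀ = z₀ * v → IsKron v := by
      intro v hv hvz
      obtain ⟨c, hcP, hc0, hc⟩ := Orth.exists_singular H.h₂
        (X := Orth.orth H.h₂ (Submodule.span F ({x, x''} : Set (β → F)))) (by
          have a := finrank_span_pair_le x x''
          have b := Orth.le_finrank_orth H.h₂ (Submodule.span F ({x, x''} : Set (β → F)))
          have := H.hb5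
          omega)
      rw [Orth.mem_orth_span H.h₂] at hcP
      have hcx : pol q₂ c x = 0 := by rw [Orth.pol_comm]; exact hcP x (Set.mem_insert _ _)
      have hcx'' : pol q₂ c x'' = 0 := by
        rw [Orth.pol_comm]; exact hcP x'' (Set.mem_insert_of_mem _ rfl)
      have hz₀t : z₀ = t * m'' := by rw [← hm'', ← mul_assoc, ht2, one_mul]
      have hfix : ∀ u, mv z₀ (ten u c) = ten u c := fun u => by
        rw [hz₀t, mv_mul, mir_perp hm''x (by rw [pc_ten H.toCtx, hcx'', zero_smul]), mv_neg,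
          mir_perp htx (by rw [pc_ten H.toCtx, hcx, zero_smul]), neg_neg]
      have hneg : ∀ u, mv (v⁻¹ * t * v) (ten u c) = -ten u c := fun u => by
        obtain ⟨r, hr⟩ : ∃ r, r = mv v (ten u c) := ⟨_, rfl⟩
        have h1 : mv z₀ r = r := by rw [hr, ← mv_mul, ← hvz, mv_mul, hfix]
        have h2 : mv m'' r = mv t r := by
          conv_rhs => rw [← h1, hz₀t, mv_mul, ← mv_mul t t, ht2, mv_one]
        rw [htx.2, hm''x.2, sub_left_inj] at h2
        have h3 := congrArg (pc q₂ x) h2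
        rw [pc_ten H.toCtx, pc_ten H.toCtx, hperp, zero_smul, Orth.pol_self H.h₂, smul_smul] at h3
        have h4 : pc q₂ x r = 0 :=
          (smul_eq_zero.1 h3.symm).resolve_left (mul_ne_zero (mul_ne_zero H.two hx) (inv_ne_zero hx))
        rw [mv_mul, mv_mul, ← hr, mir_perp htx h4, mv_neg, hr, mv_inv_mv]
      have hk : IsKron (v⁻¹ * t * v) := kron_of_line H.toCtx H.hb5 H.centre H.middle
        (M.mul_mem (M.mul_mem (M.inv_mem hv.1) htM) hv.1) hc0 hc hc0 hc
        (maps_of_forall hc0 hc0 fun u => by rw [hneg]; exact Submodule.neg_mem _ (ten_mem_line _ _))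
      obtain ⟨x', -, hxx⟩ := line_of_kron_conj H (M.inv_mem hv.1) htx (by rwa [inv_inv])
      have := kron_of_one H hZ IH (Subgroup.inv_mem _ hv) hx hxo hxx
      exact inv_inv v ▸ isKron_inv this
    obtain ⟨w', -, hww⟩ := line_of_kron_conj H hg.1 hmw (hcent _ hsS hsz)
    exact kron_of_one H hZ IH hg hw hwo hww

/-- Every member is a product. -/
theorem all_kron [Fintype F] (H : Hyp Q q₁ q₂ M) {g : GL (α × β) F} (hg : g ∈ M) : IsKron g :=
  all_kron_aux H (Fintype.card β) (Z := ∅) ⟨fun z hz => absurd hz (Finset.notMem_empty z),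
    fun z hz => absurd hz (Finset.notMem_empty z)⟩ (by rw [Finset.card_empty, zero_add]) g
    ⟨hg, fun z hz => absurd hz (Finset.notMem_empty z)⟩

end Cfsg.Agent.OrthTensorOdd
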