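/-
Stabilisers of decompositions into an even and an odd orthogonal factor of nearly equal dimensions are maximal.
-/
import Cfsg.Agent.Lib.OrthTensorOdd.Descent
import Cfsg.Agent.Lib.OrthTensorMirror.Gen
import Cfsg.Agent.Lib.OrthTensor.Main

set_option autoImplicit false
set_option linter.unusedSectionVars false

namespace Cfsg.Agent.OrthTensorOdd

open scoped Matrix Kronecker
open Matrix Cfsg.Agent.Transvec Cfsg.Agent.TensorMax
open Cfsg.Agent.TensorMax.U (kr mv_kr_ten isKron_kr mv_kron_ten ext_ten_mv)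
open Cfsg.Agent.Transvec.Orth (pol IsSiegel)
open Cfsg.Agent.OrthTensorMirror (Ctx pc row row_dot eq_zero_of_orth exists_pair pair_perp pol_self_zero CentreTriv
  NoTSPlane eq_omega_of_root root_of_centre)

variable {n₁ n₂ : ℕ} {F : Type*} [Field F]
variable {Q : (Fin n₁ × Fin n₂ → F) → F} {q₁ : (Fin n₁ → F) → F} {q₂ : (Fin n₂ → F) → F}

/-- Every negated reflection of the odd factor lies in the commutator subgroup. -/
theorem exists_mir [Fintype F] (hQ : Geo.IsNondegenerateQuadraticForm Q)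
    (h₁ : Geo.IsNondegenerateQuadraticForm q₁) (h₂ : Geo.IsNondegenerateQuadraticForm q₂) (h2 : (2 : F) ≠ 0)
    (hpol : ∀ u w v z, pol Q (ten u w) (ten v z) = pol q₁ u v * pol q₂ w z)
    (he₁ : Even n₁) (ho₂ : Odd n₂) (hn : 2 ≤ n₁ * n₂) :
    ∀ z, q₂ z ≠ 0 → ∃ m ∈ Geo.omegaGL Q, IsKron m ∧ IsMir q₂ m z := by
  classical
  haveI : Invertible (2 : F) := invertibleOfNonzero h2
  have hcard : 2 ≤ Fintype.card (Fin n₁ × Fin n₂) := by simpa using hn
  have hq : Fintype.card F ≠ 2 ∨ Fintype.card (Fin n₁ × Fin n₂) ≠ 4 := Or.inl fun hc => h2 (by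
    have h := Nat.cast_card_eq_zero F; rw [hc] at h; exact_mod_cast h)
  obtain ⟨χ, hker, -, hχ⟩ :=
    Cfsg.Agent.Orth.exists_matrix_spinor (OrthEvenMax.qMap hQ) (OrthEvenMax.qMap_nondeg hQ) hcard hq
  obtain ⟨b₁, hb₁⟩ : ∃ b₁ : LinearMap.BilinForm F (Fin n₁ → F), ∀ u v, b₁ u v = pol q₁ u v :=
    ⟨LinearMap.mk₂ F (fun u v => pol q₁ u v) (fun a b c => Transvec.Orth.pol_add_left h₁ a b c)
      (fun t a c => Transvec.Orth.pol_smul_left h₁ t a c) (fun a b c => Transvec.Orth.pol_add_right h₁ a b c)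
      (fun t a c => Transvec.Orth.pol_smul_right h₁ t a c), fun u v => rfl⟩
  obtain ⟨e, he⟩ := LinearMap.BilinForm.exists_orthogonal_basis (B := b₁)
    ⟨fun u v => by simp [hb₁, Transvec.Orth.pol_comm]⟩
  have horth : ∀ i j, i ≠ j → pol q₁ (e i) (e j) = 0 := fun i j hij => by
    rw [← hb₁]; exact he hij
  have hne : ∀ i, q₁ (e i) ≠ 0 := fun i hi => e.ne_zero i (eq_zero_of_orth h₁ fun v => by
    have : Transvec.Orth.formQ h₁ (e i) = 0 := e.ext fun j => by
      rw [Transvec.Orth.formQ_apply, LinearMap.zero_apply]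
      rcases eq_or_ne j i with rfl | h
      · rw [Transvec.Orth.pol_self h₁, hi, mul_zero]
      · exact horth j i h
    rw [Transvec.Orth.pol_comm]; exact LinearMap.congr_fun this v)
  have hq_ten : ∀ u w, Q (ten u w) = 2 * q₁ u * q₂ w := fun u w => mul_left_cancel₀ h2 (by
    rw [← Transvec.Orth.pol_self hQ, hpol, Transvec.Orth.pol_self h₁, Transvec.Orth.pol_self h₂]; ring)
  -- the invariant of a factor reflection
  have hrefl : ∀ z, q₂ z ≠ 0 → ∀ (T : Finset _), ∃ x : isometryGroup F ⇑(OrthEvenMax.qMap hQ),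
      χ x = ∏ i ∈ T, Cfsg.Agent.Orth.reflVal (OrthEvenMax.qMap hQ) (ten (e i) z) ∧
      ∀ y, mv (x : GL (Fin n₁ × Fin n₂) F) y =
        y - ∑ i ∈ T, (pol Q y (ten (e i) z) / Q (ten (e i) z)) • ten (e i) z := by
    intro z hz T
    induction T using Finset.induction_on with
    | empty => exact ⟨1, by rw [map_one, Finset.prod_empty], fun y => by
        rw [Subgroup.coe_one, mv_one, Finset.sum_empty, sub_zero]⟩
    | insert i T hi ih =>
      obtain ⟨x, hx, hxy⟩ := ih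
      have hQi : Q (ten (e i) z) ≠ 0 := by
        rw [hq_ten]; exact mul_ne_zero (mul_ne_zero h2 (hne i)) hz
      obtain ⟨r, hr, hr'⟩ := Transvec.Orth.exists_refl hQ hQi
      obtain ⟨r', hr'e⟩ : ∃ r' : isometryGroup F ⇑(OrthEvenMax.qMap hQ), (r' : GL (Fin n₁ × Fin n₂) F) = r :=
        ⟨⟨r, hr⟩, rfl⟩
      refine ⟨r' * x, ?_, fun y => ?_⟩
      · rw [map_mul, hx, Finset.prod_insert hi]
        congr 1
        refine hχ r' _ hQi (Matrix.ext_iff_mulVec.2 fun y => ?_)
        rw [Cfsg.Agent.Orth.reflectionMatrix_mulVec, hr'e]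
        exact hr'.2 y
      · rw [Subgroup.coe_mul, mv_mul, hr'e, hxy, hr'.2, Finset.sum_insert hi]
        have h0 : pol Q (∑ j ∈ T, (pol Q y (ten (e j) z) / Q (ten (e j) z)) • ten (e j) z) (ten (e i) z) = 0 := by
          rw [← Transvec.Orth.formQ_apply hQ, map_sum]
          refine Finset.sum_eq_zero fun j hj => ?_
          rw [map_smul, Transvec.Orth.formQ_apply, hpol, horth j i (fun h => hi (h ▸ hj)), zero_mul, smul_zero]
        rw [Transvec.Orth.pol_sub_left hQ, h0, sub_zero]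
        abel
  -- the invariant of the negative of the identity
  have hneg : (-1 : GL (Fin n₁ × Fin n₂) F) ∈ isometryGroup F ⇑(OrthEvenMax.qMap hQ) :=
    Transvec.Orth.mem_isometry.2 fun x => by
      show Q ((↑(-1 : GL (Fin n₁ × Fin n₂) F) : Matrix (Fin n₁ × Fin n₂) (Fin n₁ × Fin n₂) F) *ᵥ x) = Q x
      rw [Units.val_neg, Units.val_one, Matrix.neg_mulVec, Matrix.one_mulVec, Transvec.Orth.q_neg hQ]
  obtain ⟨N, hN⟩ : ∃ N : isometryGroup F ⇑(OrthEvenMax.qMap hQ), (N : GL (Fin n₁ × Fin n₂) F) = -1 :=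
    ⟨⟨-1, hneg⟩, rfl⟩
  have hN1 : (χ N).1 = 1 := by
    have hd := Cfsg.Agent.Orth.det_eq_sgn (OrthEvenMax.qMap hQ) (OrthEvenMax.qMap_nondeg hQ) hq χ hχ N
    rw [hN, Units.val_neg, Units.val_one, Matrix.det_neg, Matrix.det_one, mul_one, Fintype.card_prod,
      Fintype.card_fin, Fintype.card_fin, (he₁.mul_right n₂).neg_one_pow] at hd
    rcases (show ∀ x : ZMod 2, x = 0 ∨ x = 1 by decide) (Multiplicative.toAdd (χ N).1) with h | h
    · exact Multiplicative.toAdd.injective h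
    · rw [h, Cfsg.Agent.Orth.sgn, if_neg one_ne_zero] at hd
      exact absurd (by linear_combination hd) h2
  have hprod : ∀ (z : Fin n₂ → F), q₂ z ≠ 0 → ∀ T : Finset _,
      (∏ i ∈ T, Cfsg.Agent.Orth.reflVal (OrthEvenMax.qMap hQ) (ten (e i) z)) =
        (Multiplicative.ofAdd ((T.card : ℕ) : ZMod 2),
          (∏ i ∈ T, Cfsg.Agent.Orth.sqc F (2 * q₁ (e i))) * Cfsg.Agent.Orth.sqc F (q₂ z) ^ T.card) := by
    intro z hz T
    induction T using Finset.induction_on with
    | empty => simp; rfl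
    | insert i T hi ih =>
      rw [Finset.prod_insert hi, Finset.prod_insert hi, ih, Finset.card_insert_of_notMem hi,
        Cfsg.Agent.Orth.reflVal, OrthEvenMax.qMap_coe, hq_ten,
        Cfsg.Agent.Orth.sqc_mul (mul_ne_zero h2 (hne i)) hz, Prod.mk_mul_mk, Nat.cast_succ, pow_succ]
      refine Prod.ext ?_ ?_
      · exact (ofAdd_add _ _).symm.trans (congrArg Multiplicative.ofAdd (add_comm _ _))
      · show _ * _ * (_ * _) = _
        ac_rfl
  obtain ⟨s₁, hs₁⟩ : ∃ s, s = ∏ i, Cfsg.Agent.Orth.sqc F (2 * q₁ (e i)) := ⟨_, rfl⟩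
  have hs₁2 : s₁ * s₁ = 1 := by
    rw [hs₁, ← Finset.prod_mul_distrib]
    exact Finset.prod_eq_one fun i _ => Cfsg.Agent.Orth.sqc_mul_self (mul_ne_zero h2 (hne i))
  have hr₁ : Even (Module.finrank F (Fin n₁ → F)) := by
    rw [Module.finrank_fintype_fun_eq_card, Fintype.card_fin]; exact he₁
  have hline : ∀ c, q₂ c ≠ 0 → (∏ i, Cfsg.Agent.Orth.sqc F (Q (ten (e i) c))) = s₁ := fun c hc => by
    obtain ⟨j, hj⟩ := hr₁
    rw [Finset.prod_congr rfl fun i _ => show Cfsg.Agent.Orth.sqc F (Q (ten (e i) c)) = _ by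
        rw [hq_ten, Cfsg.Agent.Orth.sqc_mul (mul_ne_zero h2 (hne i)) hc],
      Finset.prod_mul_distrib, Finset.prod_const, ← hs₁, Finset.card_univ, Fintype.card_fin, hj, ← two_mul, pow_mul,
      pow_two, Cfsg.Agent.Orth.sqc_mul_self hc, one_pow, mul_one]
  obtain ⟨b₂, hb₂⟩ : ∃ b₂ : LinearMap.BilinForm F (Fin n₂ → F), ∀ u v, b₂ u v = pol q₂ u v :=
    ⟨LinearMap.mk₂ F (fun u v => pol q₂ u v) (fun a b c => Transvec.Orth.pol_add_left h₂ a b c)
      (fun t a c => Transvec.Orth.pol_smul_left h₂ t a c) (fun a b c => Transvec.Orth.pol_add_right h₂ a b c)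
      (fun t a c => Transvec.Orth.pol_smul_right h₂ t a c), fun u v => rfl⟩
  obtain ⟨f, hf⟩ := LinearMap.BilinForm.exists_orthogonal_basis (B := b₂)
    ⟨fun u v => by simp [hb₂, Transvec.Orth.pol_comm]⟩
  have horth₂ : ∀ i j, i ≠ j → pol q₂ (f i) (f j) = 0 := fun i j hij => by
    rw [← hb₂]; exact hf hij
  have hne₂ : ∀ i, q₂ (f i) ≠ 0 := fun i hi => f.ne_zero i (eq_zero_of_orth h₂ fun v => by
    have : Transvec.Orth.formQ h₂ (f i) = 0 := f.ext fun j => by
      rw [Transvec.Orth.formQ_apply, LinearMap.zero_apply]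
      rcases eq_or_ne j i with rfl | h
      · rw [Transvec.Orth.pol_self h₂, hi, mul_zero]
      · exact horth₂ j i h
    rw [Transvec.Orth.pol_comm]; exact LinearMap.congr_fun this v)
  have hN2 : (χ N).2 = s₁ := by
    have hQne : ∀ p : Fin (Module.finrank F (Fin n₁ → F)) × Fin (Module.finrank F (Fin n₂ → F)),
        Q (ten (e p.1) (f p.2)) ≠ 0 := fun p => by
      rw [hq_ten]; exact mul_ne_zero (mul_ne_zero h2 (hne _)) (hne₂ _)
    have h := Cfsg.Agent.Orth.spinor_neg_one (OrthEvenMax.qMap hQ) (OrthEvenMax.qMap_nondeg hQ) h2 χ hχ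
      (fun p : Fin (Module.finrank F (Fin n₁ → F)) × Fin (Module.finrank F (Fin n₂ → F)) => ten (e p.1) (f p.2))
      (fun i j hij => by
        show pol Q _ _ = 0
        rw [hpol]
        by_cases h : i.1 = j.1
        · rw [horth₂ i.2 j.2 fun h' => hij (Prod.ext h h'), mul_zero]
        · rw [horth _ _ h, zero_mul])
      hQne (by simp) (by rw [hN, Units.val_neg, Units.val_one])
    have hsq : ∀ T : Finset (Fin (Module.finrank F (Fin n₁ → F)) × Fin (Module.finrank F (Fin n₂ → F))),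
        Cfsg.Agent.Orth.sqc F (∏ p ∈ T, Q (ten (e p.1) (f p.2))) =
        ∏ p ∈ T, Cfsg.Agent.Orth.sqc F (Q (ten (e p.1) (f p.2))) := fun T => by
      induction T using Finset.induction_on with
      | empty => rw [Finset.prod_empty, Finset.prod_empty, Cfsg.Agent.Orth.sqc_one]
      | insert i T hi ih =>
        rw [Finset.prod_insert hi, Finset.prod_insert hi,
          Cfsg.Agent.Orth.sqc_mul (hQne i) (Finset.prod_ne_zero_iff.2 fun j _ => hQne j), ih]
    have hodd : Odd (Module.finrank F (Fin n₂ → F)) := by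
      rw [Module.finrank_fintype_fun_eq_card, Fintype.card_fin]; exact ho₂
    obtain ⟨k, hk⟩ := hodd
    refine h.trans ((hsq Finset.univ).trans ?_)
    rw [Fintype.prod_prod_type_right, Finset.prod_congr rfl fun j _ => hline (f j) (hne₂ j), Finset.prod_const,
      Finset.card_univ, Fintype.card_fin, hk, pow_succ, pow_mul, pow_two, hs₁2, one_pow, one_mul]
  intro z hz0
  obtain ⟨r, hr, hr'⟩ := Transvec.Orth.exists_refl h₂ hz0
  obtain ⟨r₁, hr₁'⟩ : ∃ r₁ : GL (Fin n₂) F, ∀ w, mv r₁ w = -mv r w := ⟨-r, fun w => by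
    show (↑(-r) : Matrix (Fin n₂) (Fin n₂) F) *ᵥ w = _
    rw [Units.val_neg, Matrix.neg_mulVec]⟩
  obtain ⟨x, hx, hxy⟩ := hrefl z hz0 Finset.univ
  have hxe : ∀ u w, mv (x : GL (Fin n₁ × Fin n₂) F) (ten u w) = ten u (mv r w) := by
    intro u w
    rw [hxy, hr'.2]
    have hu : ∑ i, (pol q₁ u (e i) / (2 * q₁ (e i))) • e i = u := by
      refine sub_eq_zero.1 (eq_zero_of_orth h₁ fun v => ?_)
      have h0 : Transvec.Orth.formQ h₁ (∑ i, (pol q₁ u (e i) / (2 * q₁ (e i))) • e i - u) = 0 := e.ext fun j => by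
        rw [Transvec.Orth.formQ_apply, LinearMap.zero_apply, Transvec.Orth.pol_sub_right h₁, Transvec.Orth.pol_comm (e j),
          ← Transvec.Orth.formQ_apply h₁, map_sum, Finset.sum_eq_single j]
        · rw [map_smul, Transvec.Orth.formQ_apply, Transvec.Orth.pol_self h₁, smul_eq_mul, div_mul_cancel₀ _ (mul_ne_zero h2 (hne j)),
            Transvec.Orth.pol_comm (e j) u, sub_self]
        · intro i _ hij
          rw [map_smul, Transvec.Orth.formQ_apply, horth i j hij, smul_zero]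
        · exact fun h => absurd (Finset.mem_univ j) h
      rw [Transvec.Orth.pol_comm]; exact LinearMap.congr_fun h0 v
    have e1 : ∀ i, (pol Q (ten u w) (ten (e i) z) / Q (ten (e i) z)) • ten (e i) z =
        rho ((pol q₂ w z / q₂ z) • z) ((pol q₁ u (e i) / (2 * q₁ (e i))) • e i) := fun i => by
      rw [hpol, hq_ten, rho_apply, ten_smul_left, ten_smul_right, smul_smul, div_mul_div_comm]
    rw [Finset.sum_congr rfl fun i _ => e1 i, ← map_sum, hu, rho_apply, ten_smul_right,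
      sub_eq_add_neg (w : Fin n₂ → F), ten_add_right, ← neg_one_smul F ((pol q₂ w z / q₂ z) • z),
      ten_smul_right, ten_smul_right]
    module
  refine ⟨(N * x : isometryGroup F ⇑(OrthEvenMax.qMap hQ)), ⟨N * x, ?_, rfl⟩, ⟨1, r₁, ?_⟩, hz0, ?_⟩
  · show N * x ∈ Omega F ⇑(OrthEvenMax.qMap hQ)
    rw [← hker, MonoidHom.mem_ker, map_mul, hx, hprod z hz0, Finset.card_univ, Fintype.card_fin]
    obtain ⟨j, hj⟩ := hr₁
    refine Prod.ext ?_ ?_
    · show (χ N).1 * Multiplicative.ofAdd ((Module.finrank F (Fin n₁ → F) : ℕ) : ZMod 2) = 1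
      rw [hN1, one_mul, ZMod.natCast_eq_zero_iff_even.2 ⟨j, hj⟩, ofAdd_zero]
    · show (χ N).2 * (_ * _) = 1
      rw [hN2, ← hs₁, hj, ← two_mul, pow_mul, pow_two (Cfsg.Agent.Orth.sqc F (q₂ z)),
        Cfsg.Agent.Orth.sqc_mul_self hz0, one_pow, mul_one, hs₁2]
  · have hg : ((N * x : isometryGroup F ⇑(OrthEvenMax.qMap hQ)) : GL (Fin n₁ × Fin n₂) F) = kr 1 r₁ := by
      refine ext_ten_mv fun u w => ?_
      rw [Subgroup.coe_mul, mv_mul, hxe, mv_kr_ten, mv_one, hr₁', hN,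
        show mv (-1 : GL (Fin n₁ × Fin n₂) F) (ten u (mv r w)) = -ten u (mv r w) by
          show (↑(-1 : GL (Fin n₁ × Fin n₂) F) : Matrix (Fin n₁ × Fin n₂) (Fin n₁ × Fin n₂) F) *ᵥ _ = _
          rw [Units.val_neg, Units.val_one, Matrix.neg_mulVec, Matrix.one_mulVec],
        ← neg_one_smul F (mv r w), ten_smul_right, neg_one_smul]
    rw [hg]
    rfl
  · have hv : ∀ u w, mv ((N * x : isometryGroup F ⇑(OrthEvenMax.qMap hQ)) : GL (Fin n₁ × Fin n₂) F) (ten u w) =
        ten u ((pol q₂ w z / q₂ z) • z - w) := fun u w => by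
      rw [Subgroup.coe_mul, mv_mul, hxe, hN, hr'.2]
      show (↑(-1 : GL (Fin n₁ × Fin n₂) F) : Matrix (Fin n₁ × Fin n₂) (Fin n₁ × Fin n₂) F) *ᵥ _ = _
      rw [Units.val_neg, Units.val_one, Matrix.neg_mulVec, Matrix.one_mulVec]
      funext i
      simp [ten]
      ring
    have hel : mvLin ((N * x : isometryGroup F ⇑(OrthEvenMax.qMap hQ)) : GL (Fin n₁ × Fin n₂) F) =
        (rho z).comp ((q₂ z)⁻¹ • pc q₂ z) - LinearMap.id := ext_ten fun u w => by
      rw [Matrix.toLin'_apply]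
      show mv _ (ten u w) = _
      rw [hv]
      simp only [LinearMap.sub_apply, LinearMap.comp_apply, LinearMap.smul_apply, LinearMap.id_apply, rho_apply,
        pc, ctr_ten, row_dot h₂]
      funext i
      simp [ten]
      ring
    intro y
    have := LinearMap.congr_fun hel y
    rw [Matrix.toLin'_apply] at this
    exact this

/-- The Kronecker products in the commutator subgroup form a maximal subgroup. -/
theorem maximal_std [Fintype F] (hQ : Geo.IsNondegenerateQuadraticForm Q)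
    (h₁ : Geo.IsNondegenerateQuadraticForm q₁) (h₂ : Geo.IsNondegenerateQuadraticForm q₂) (h2 : (2 : F) ≠ 0)
    (hpol : ∀ u w v z, pol Q (ten u w) (ten v z) = pol q₁ u v * pol q₂ w z)
    (ha : 4 ≤ n₁) (hb : 5 ≤ n₂) (he : Even n₁) (ho : Odd n₂) (hle : n₁ ≤ n₂ + 1)
    (h4 : n₁ ≠ 4 ∨ NoTSPlane q₁)
    {K : Subgroup (GL (Fin n₁ × Fin n₂) F)} (hK : ∀ g, g ∈ K ↔ IsKron g) :
    Geo.IsMaximalIn (Geo.omegaGL Q) (K ⊓ Geo.omegaGL Q) := by
  have hn : 20 ≤ n₁ * n₂ := Nat.mul_le_mul ha hb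
  have hcard : 11 ≤ Fintype.card (Fin n₁ × Fin n₂) := by simp only [Fintype.card_prod, Fintype.card_fin]; omega
  have hα : 3 ≤ Fintype.card (Fin n₁) := by simp; omega
  have hb5 : 5 ≤ Fintype.card (Fin n₂) := by simpa using hb
  have hαβ : 3 ≤ Fintype.card (Fin n₂) := le_trans (by norm_num) hb5
  have C₀ : Ctx Q q₁ q₂ (isometryGroup F Q) :=
    ⟨hQ, h₁, h₂, h2, hpol, hα, hαβ, le_rfl,
      fun _ hA _ => OrthTensor.kr_isometry hQ h₁ h₂ h2 hpol hA (Subgroup.one_mem _),
      fun _ hB _ => OrthTensor.kr_isometry hQ h₁ h₂ h2 hpol (Subgroup.one_mem _) hB⟩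
  refine ⟨lt_of_le_of_ne inf_le_right fun heq => ?_, fun M hM1 hM2 => ?_⟩
  · obtain ⟨e, -, he0, he⟩ := Transvec.Orth.exists_singular h₁ (X := ⊤)
      (by rw [finrank_top, Module.finrank_pi]; exact hα)
    obtain ⟨c, -, hc0, hc⟩ := Transvec.Orth.exists_singular h₂ (X := ⊤)
      (by rw [finrank_top, Module.finrank_pi]; exact le_trans (by omega) hαβ)
    obtain ⟨a, ha', hea⟩ := exists_pair h₁ he0 he
    obtain ⟨hXn, hXf, hXm⟩ := pair_perp h₁ he ha' hea
    obtain ⟨y, hyX, hyq⟩ := Transvec.Orth.exists_anisotropic h₁ hXn fun h => by rw [h, finrank_bot] at hXf; omega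
    obtain ⟨hye, hya⟩ := (hXm y).1 hyX
    obtain ⟨d, hd, hcd⟩ := exists_pair h₂ hc0 hc
    have hdc : pol q₂ d c = 1 := by rw [Transvec.Orth.pol_comm, hcd]
    have hperp : pol Q (ten e c) (ten y c) = 0 := by
      rw [hpol, Transvec.Orth.pol_comm e y, hye, zero_mul]
    obtain ⟨g, hg, hgs⟩ := Transvec.Orth.exists_siegel hQ (C₀.q_iso_left he c) hperp
    have hgO : g ∈ Geo.omegaGL Q := Transvec.Orth.siegel_mem_omega hQ (le_trans (by norm_num) hcard) (C₀.q_iso_left he c) hperp hgs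
    rw [← heq] at hgO
    obtain ⟨A, B, hAB⟩ := mv_kron_ten ((hK g).1 hgO.1)
    have hgten : ∀ u w, mv g (ten u w) = ten u w + ten (pol q₂ w c • (pol q₁ u e • y - pol q₁ u y • e)) c := by
      intro u w
      rw [hgs, hpol, hpol, C₀.q_iso_right hc]
      funext p
      simp [ten]
      ring
    obtain ⟨θ, hθ⟩ := exists_dot_one hc0
    have hA : ∀ u, u = (θ ⬝ᵥ mv B c) • mv A u := fun u => by
      have e1 := congrArg (ctr θ) (hAB u c)
      rw [hgten, pol_self_zero h₂ hc, zero_smul, ten_zero_left, add_zero, ctr_ten, ctr_ten, hθ, one_smul] at e1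
      exact e1
    have hd0 : d ∉ Submodule.span F {c} := fun hm => by
      obtain ⟨t, rfl⟩ := Submodule.mem_span_singleton.1 hm
      rw [Transvec.Orth.pol_smul_right h₂, pol_self_zero h₂ hc, mul_zero] at hcd
      exact zero_ne_one hcd
    have hcd0 : c ∉ Submodule.span F {d} := fun hm => by
      obtain ⟨t, ht⟩ := Submodule.mem_span_singleton.1 hm
      exact hd0 (Submodule.mem_span_singleton.2 ⟨t⁻¹, by
        rw [← ht, smul_smul, inv_mul_cancel₀ (fun h => hc0 (by rw [← ht, h, zero_smul])), one_smul]⟩)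
    obtain ⟨φ, hφ, hφ'⟩ := exists_dot hcd0
    have key := congrArg (ctr φ) (hAB a d)
    rw [hgten, hdc, one_smul, map_add, ctr_ten, ctr_ten, ctr_ten, hφ d (Submodule.mem_span_singleton_self d), hφ',
      zero_smul, zero_add, one_smul, Transvec.Orth.pol_comm a e, hea, one_smul, Transvec.Orth.pol_comm a y, hya, zero_smul,
      sub_zero] at key
    have key2 := congrArg (fun v => pol q₁ v y) key
    have ha2 := congrArg (fun v => pol q₁ v y) (hA a)
    simp only [Transvec.Orth.pol_smul_left h₁] at key2 ha2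
    rw [Transvec.Orth.pol_comm a y, hya] at ha2
    rcases mul_eq_zero.1 ha2.symm with h | h
    · have := hA y
      rw [h, zero_smul] at this
      exact hyq (by rw [this, Transvec.Orth.q_zero h₁])
    · rw [h, mul_zero, Transvec.Orth.pol_self h₁] at key2
      exact mul_ne_zero h2 hyq key2
  · have hMI : M ≤ isometryGroup F Q := hM2.trans (Transvec.Orth.omega_le_isometry hQ)
    have hcard2 : 2 ≤ Fintype.card (Fin n₁ × Fin n₂) := le_trans (by norm_num) hcard
    have hodd : ∀ A ∈ isometryGroup F q₁, ∀ B ∈ isometryGroup F q₂, Odd (orderOf A) → Odd (orderOf B) →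
        kr A B ∈ M := fun A hA B hB hAo hBo => by
      refine hM1 ⟨(hK _).2 (isKron_kr _ _), OrthTensor.omega_of_odd hQ h2 hcard2 (OrthTensor.kr_isometry hQ h₁ h₂ h2 hpol hA hB) ?_⟩
      refine (Odd.mul hAo hBo).of_dvd_nat (orderOf_dvd_of_pow_eq_one ?_)
      rw [OrthTensor.kr_pow, orderOf_dvd_iff_pow_eq_one.1 (dvd_mul_right _ _), orderOf_dvd_iff_pow_eq_one.1 (dvd_mul_left _ _)]
      exact ext_ten_mv fun u w => by simp [mv_kr_ten, mv_one]
    have C : Ctx Q q₁ q₂ M := ⟨hQ, h₁, h₂, h2, hpol, hα, hαβ, hMI,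
      fun A hA hAo => hodd A hA 1 (Subgroup.one_mem _) hAo (by rw [orderOf_one]; exact odd_one),
      fun B hB hBo => hodd 1 (Subgroup.one_mem _) B hB (by rw [orderOf_one]; exact odd_one) hBo⟩
    by_cases hC : CentreTriv q₂ M
    · have H : Hyp Q q₁ q₂ M :=
        { toCtx := C
          hb5 := hb5
          oddβ := by simpa using ho
          evenα := by simpa using he
          hle := by simpa using hle
          centre := hC
          middle := middle_shear C hb5 (Or.inl (by simpa using ha)) hC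
          mir := fun z hz => by
            obtain ⟨m, hmO, hmK, hme⟩ := exists_mir hQ h₁ h₂ h2 hpol he ho (le_trans (by norm_num) hn) z hz
            exact ⟨m, hM1 ⟨(hK m).2 hmK, hmO⟩, hme⟩ }
      exact Or.inl (le_antisymm (fun g hg => ⟨(hK g).2 (all_kron H hg), hM2 hg⟩) hM1)
    · exact Or.inr (eq_omega_of_root hcard (by simpa using h4) C (root_of_centre C hC) hM2)

/-- The stabiliser of a decomposition into an even and an odd factor is maximal. -/
theorem tensor_maximal_even_odd [Fintype F] {ι : Type} [Fintype ι] [DecidableEq ι] (h2 : (2 : F) ≠ 0)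
    (Q : (ι → F) → F) (hQ : Geo.IsNondegenerateQuadraticForm Q)
    (ha : 4 ≤ n₁) (hb : 5 ≤ n₂) (he : Even n₁) (ho : Odd n₂) (hle : n₁ ≤ n₂ + 1)
    (e : ι ≃ Fin n₁ × Fin n₂) (P : GL ι F) (f₁ : (Fin n₁ → F) → (Fin n₁ → F) → F)
    (f₂ : (Fin n₂ → F) → (Fin n₂ → F) → F) (hf₁ : Geo.IsSymmetricForm f₁) (hf₂ : Geo.IsSymmetricForm f₂)
    (hminus : n₁ = 4 → ¬ Geo.IsPlusTypeOn (fun v : Fin n₁ → F => f₁ v v) ⊤)
    (hT : Geo.IsTensorFormStructure id (QuadraticMap.polar Q) f₁ f₂ e P) :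
    Geo.IsMaximalIn (Geo.omegaGL Q) (Geo.tensorProductSubgroup n₁ n₂ e P ⊓ Geo.omegaGL Q) := by
  obtain ⟨c, hc, hT⟩ := hT
  set Q' : (Fin n₁ × Fin n₂ → F) → F := fun x => c⁻¹ * Q (mv P (x ∘ e)) with hQ'def
  have hpol' : ∀ x y, pol Q' x y = c⁻¹ * pol Q (mv P (x ∘ e)) (mv P (y ∘ e)) := fun x y => by
    simp only [hQ'def, pol, QuadraticMap.polar, ← mv_add]
    rw [show (x + y) ∘ e = x ∘ e + y ∘ e from rfl]
    ring
  have hQ' : Geo.IsNondegenerateQuadraticForm Q' := by
    refine ⟨fun r v => ?_, ⟨fun x y v => ?_, fun r x v => ?_, fun v x y => ?_, fun r v x => ?_⟩, fun v hv => ?_⟩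
    · simp only [hQ'def]
      rw [show (r • v) ∘ e = r • (v ∘ e) from rfl, mv_smul, Transvec.Orth.q_smul hQ]
      ring
    · show pol Q' (x + y) v = pol Q' x v + pol Q' y v
      rw [hpol', hpol', hpol', show (x + y) ∘ e = x ∘ e + y ∘ e from rfl, mv_add, Transvec.Orth.pol_add_left hQ]
      ring
    · show pol Q' (r • x) v = r * pol Q' x v
      rw [hpol', hpol', show (r • x) ∘ e = r • (x ∘ e) from rfl, mv_smul, Transvec.Orth.pol_smul_left hQ]
      ring
    · show pol Q' v (x + y) = pol Q' v x + pol Q' v y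
      rw [hpol', hpol', hpol', show (x + y) ∘ e = x ∘ e + y ∘ e from rfl, mv_add, Transvec.Orth.pol_add_right hQ]
      ring
    · show pol Q' v (r • x) = r * pol Q' v x
      rw [hpol', hpol', show (r • x) ∘ e = r • (x ∘ e) from rfl, mv_smul, Transvec.Orth.pol_smul_right hQ]
      ring
    · have hv' : mv P (v ∘ e) ≠ 0 := fun h => hv (by
        funext k
        simpa using congrFun (mv_inj P (h.trans (mv_zero P).symm)) (e.symm k))
      obtain ⟨⟨x, hx⟩, ⟨y, hy⟩⟩ := hQ.nondegenerate _ hv'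
      have key : ∀ y, mv P (((mv P⁻¹ y) ∘ e.symm) ∘ e) = y := fun y => by
        rw [Function.comp_assoc, Equiv.symm_comp_self, Function.comp_id, mv_mv_inv]
      refine ⟨⟨(mv P⁻¹ x) ∘ e.symm, ?_⟩, ⟨(mv P⁻¹ y) ∘ e.symm, ?_⟩⟩
      · show pol Q' _ v ≠ 0
        rw [hpol', key]
        exact mul_ne_zero (inv_ne_zero hc) hx
      · show pol Q' v _ ≠ 0
        rw [hpol', key]
        exact mul_ne_zero (inv_ne_zero hc) hy
  obtain ⟨h₁, hp₁⟩ := OrthTensor.nondeg_of_symm h2 hf₁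
  obtain ⟨h₂, hp₂⟩ := OrthTensor.nondeg_of_symm h2 hf₂
  have hgram : ∀ {k : ℕ} {g : (Fin k → F) → (Fin k → F) → F}, Geo.IsSymmetricForm g → ∀ u v,
      ∑ i, ∑ j, u i * Geo.gramMatrix g i j * v j = g u v := by
    intro k g hg u v
    obtain ⟨hn, hp⟩ := OrthTensor.nondeg_of_symm h2 hg
    have e1 : ∀ x y, Transvec.Orth.formQ hn y x = g x y := fun x y => by rw [Transvec.Orth.formQ_apply, hp]
    have hlin : ∀ u v, g u v = ∑ i, u i * g (Pi.single i 1) v := fun u v => by
      rw [← e1]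
      conv_lhs => rw [pi_eq_sum_univ' u, map_sum]
      exact Finset.sum_congr rfl fun i _ => by rw [map_smul, e1, smul_eq_mul]
    rw [hlin u v]
    refine Finset.sum_congr rfl fun i _ => ?_
    rw [hg.symm (Pi.single i 1) v, hlin v, Finset.mul_sum]
    refine Finset.sum_congr rfl fun j _ => ?_
    show u i * g (Pi.single i 1) (Pi.single j 1) * v j = _
    rw [hg.symm (Pi.single j 1)]
    ring
  have hpol : ∀ u w v z, pol Q' (ten u w) (ten v z) =
      pol (fun v => f₁ v v / 2) u v * pol (fun v => f₂ v v / 2) w z := by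
    intro u w v z
    rw [hp₁, hp₂, hpol', show pol Q (mv P (ten u w ∘ e)) (mv P (ten v z ∘ e)) = _ from hT (ten u w) (ten v z),
      ← mul_assoc, inv_mul_cancel₀ hc, one_mul, ← hgram hf₁, ← hgram hf₂]
    simp only [Geo.formOfGram, id_eq, Fintype.sum_prod_type, ten_apply, Matrix.kroneckerMap_apply,
      Finset.sum_mul, Finset.mul_sum]
    rw [Finset.sum_comm]
    refine Finset.sum_congr rfl fun k _ => ?_
    conv_rhs => rw [Finset.sum_comm]
    refine Finset.sum_congr rfl fun i _ => ?_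
    rw [Finset.sum_comm]
    exact Finset.sum_congr rfl fun l _ => Finset.sum_congr rfl fun j _ => by ring
  have hcard : Fintype.card ι = n₁ * n₂ := by simpa using Fintype.card_congr e
  have hn : 11 ≤ Fintype.card ι := by
    have : 20 ≤ n₁ * n₂ := Nat.mul_le_mul ha hb
    omega
  have h4 : n₁ ≠ 4 ∨ NoTSPlane (fun v : Fin n₁ → F => f₁ v v / 2) := by
    refine (em (n₁ = 4)).elim (fun h4 => Or.inr fun x y hx0 hx hy hxy => ?_) Or.inl
    by_contra hmem
    have hli : LinearIndependent F ![x, y] := LinearIndependent.pair_iff.2 fun s t hst => by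
      by_cases ht : t = 0
      · rw [ht, zero_smul, add_zero] at hst
        exact ⟨(smul_eq_zero.1 hst).resolve_right hx0, ht⟩
      · exact absurd (Submodule.mem_span_singleton.2 ⟨-(t⁻¹ * s), by
          rw [neg_smul, mul_smul, ← smul_neg, ← eq_neg_of_add_eq_zero_right hst, smul_smul, inv_mul_cancel₀ ht,
            one_smul]⟩) hmem
    refine hminus h4 ⟨Submodule.span F (Set.range ![x, y]), le_top, fun v hv => ?_, ?_⟩
    · obtain ⟨a, rfl⟩ := (Submodule.mem_span_range_iff_exists_fun F).1 hv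
      simp only [Fin.sum_univ_two, Matrix.cons_val_zero, Matrix.cons_val_one]
      have h := Transvec.Orth.q_add h₁ (a 0 • x) (a 1 • y)
      rw [Transvec.Orth.q_smul h₁, Transvec.Orth.q_smul h₁, Transvec.Orth.pol_smul_left h₁,
        Transvec.Orth.pol_smul_right h₁, (show f₁ x x / 2 = 0 from hx), (show f₁ y y / 2 = 0 from hy), hxy, mul_zero, mul_zero, mul_zero, mul_zero, add_zero,
        add_zero] at h
      exact (div_eq_zero_iff.1 h).resolve_right h2
    · rw [finrank_span_eq_card hli, finrank_top, Module.finrank_pi, Fintype.card_fin, Fintype.card_fin, h4]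
  have h := maximal_std hQ' h₁ h₂ h2 hpol ha hb he ho hle h4
    (K := Geo.kroneckerSubgroup n₁ n₂ F) (fun g => Iff.rfl)
  have h' := Transvec.isMaximalIn_map (MulAut.conj P) (Transvec.isMaximalIn_map (Geo.glReindex e.symm) h)
  rw [Subgroup.map_inf _ _ (Geo.glReindex (F := F) e.symm).toMonoidHom (Geo.glReindex e.symm).injective,
    Subgroup.map_inf _ _ (MulAut.conj P).toMonoidHom (MulAut.conj P).injective,
    TensorMax.S.map_omega e P hQ hQ' (inv_ne_zero hc) (fun x => rfl) hn] at h'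
  exact h'


/-- Exchanging the factors. -/
theorem tensorProduct_swap {ι : Type} [Fintype ι] [DecidableEq ι] (e : ι ≃ Fin n₁ × Fin n₂) (P : GL ι F) :
    Geo.tensorProductSubgroup n₂ n₁ (e.trans (Equiv.prodComm _ _)) P = Geo.tensorProductSubgroup n₁ n₂ e P := by
  unfold Geo.tensorProductSubgroup
  congr 1
  ext g
  constructor
  · rintro ⟨x, ⟨a, b, hab⟩, rfl⟩
    refine ⟨kr b a, ⟨b, a, rfl⟩, Units.ext ?_⟩
    ext i j
    show (b : Matrix (Fin n₁) (Fin n₁) F) (e i).1 (e j).1 * (a : Matrix (Fin n₂) (Fin n₂) F) (e i).2 (e j).2 =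
      (x : Matrix (Fin n₂ × Fin n₁) (Fin n₂ × Fin n₁) F) ((e i).swap) ((e j).swap)
    rw [hab, Matrix.kroneckerMap_apply]
    exact mul_comm _ _
  · rintro ⟨x, ⟨a, b, hab⟩, rfl⟩
    refine ⟨kr b a, ⟨b, a, rfl⟩, Units.ext ?_⟩
    ext i j
    show (b : Matrix (Fin n₂) (Fin n₂) F) (e i).2 (e j).2 * (a : Matrix (Fin n₁) (Fin n₁) F) (e i).1 (e j).1 =
      (x : Matrix (Fin n₁ × Fin n₂) (Fin n₁ × Fin n₂) F) (e i) (e j)
    rw [hab, Matrix.kroneckerMap_apply]
    exact mul_comm _ _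

theorem structure_swap {ι : Type} [Fintype ι] [DecidableEq ι] {f : (ι → F) → (ι → F) → F}
    {f₁ : (Fin n₁ → F) → (Fin n₁ → F) → F} {f₂ : (Fin n₂ → F) → (Fin n₂ → F) → F}
    {e : ι ≃ Fin n₁ × Fin n₂} {P : GL ι F} (h : Geo.IsTensorFormStructure id f f₁ f₂ e P) :
    Geo.IsTensorFormStructure id f f₂ f₁ (e.trans (Equiv.prodComm _ _)) P := by
  obtain ⟨c, hc, h⟩ := h
  refine ⟨c, hc, fun x y => ?_⟩
  have e1 := h (x ∘ Prod.swap) (y ∘ Prod.swap)
  refine e1.trans ?_
  congr 1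
  simp only [Geo.formOfGram, id_eq]
  refine Fintype.sum_equiv (Equiv.prodComm _ _) _ _ fun a => ?_
  refine Fintype.sum_equiv (Equiv.prodComm _ _) _ _ fun b => ?_
  simp only [Function.comp_apply, Matrix.kroneckerMap_apply, Equiv.prodComm_apply, Prod.fst_swap, Prod.snd_swap]
  ring

/-- An odd factor of dimension at least five and an even factor of dimension at most one more. -/
theorem tensor_maximal_odd_even [Fintype F] {ι : Type} [Fintype ι] [DecidableEq ι] (h2 : (2 : F) ≠ 0)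
    (Q : (ι → F) → F) (hQ : Geo.IsNondegenerateQuadraticForm Q)
    (ha : 5 ≤ n₁) (hb : 4 ≤ n₂) (ho : Odd n₁) (he : Even n₂) (hle : n₂ ≤ n₁ + 1)
    (e : ι ≃ Fin n₁ × Fin n₂) (P : GL ι F) (f₁ : (Fin n₁ → F) → (Fin n₁ → F) → F)
    (f₂ : (Fin n₂ → F) → (Fin n₂ → F) → F) (hf₁ : Geo.IsSymmetricForm f₁) (hf₂ : Geo.IsSymmetricForm f₂)
    (hminus : ¬ Geo.IsPlusTypeOn (fun v : Fin n₂ → F => f₂ v v) ⊤)
    (hT : Geo.IsTensorFormStructure id (QuadraticMap.polar Q) f₁ f₂ e P) :
    Geo.IsMaximalIn (Geo.omegaGL Q) (Geo.tensorProductSubgroup n₁ n₂ e P ⊓ Geo.omegaGL Q) := by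
  rw [← tensorProduct_swap e P]
  exact tensor_maximal_even_odd h2 Q hQ hb ha he ho hle _ P f₂ f₁ hf₂ hf₁ (fun _ => hminus) (structure_swap hT)

end Cfsg.Agent.OrthTensorOdd
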